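import Cfsg.Prelude.Def_Local
import Cfsg.Agent.Lib.Classical.SL

/-!
The isomorphism `SL₄(2) ≅ A₈`: the group acts on the eight heptads of non-degenerate alternating
forms, the `28` forms being the pairwise sums of eight vectors `u 0, …, u 7`.
-/

set_option autoImplicit false

namespace Cfsg.Agent.GLFourTwo

open Matrix

/-- Alternating matrix with given upper coordinates. -/
def altM (a b c d e f : ZMod 2) : Matrix (Fin 4) (Fin 4) (ZMod 2) :=
  !![0, a, b, c; a, 0, d, e; b, d, 0, f; c, e, f, 0]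

/-- Eight vectors whose pairwise sums are the non-degenerate alternating forms. -/
def u : Fin 8 → Matrix (Fin 4) (Fin 4) (ZMod 2) :=
  ![0, altM 0 0 1 1 0 0, altM 0 1 0 1 1 0, altM 0 1 1 0 1 1, altM 1 0 0 1 1 1, altM 1 0 1 0 0 1,
    altM 1 1 0 1 0 1, altM 1 1 1 0 1 0]

theorem u_zero : u 0 = 0 := rfl

theorem pair_eq : ∀ a b c d : Fin 8, a ≠ b → u a + u b = u c + u d →
    (a = c ∧ b = d) ∨ (a = d ∧ b = c) := by
  decide +kernel

theorem add_cancel_mid (a b c : Matrix (Fin 4) (Fin 4) (ZMod 2)) : a + c + (b + c) = a + b := by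
  rw [add_add_add_comm]
  have h : c + c = 0 := by
    ext i j
    exact CharTwo.add_self_eq_zero (c i j)
  rw [h, add_zero]

/-- `g` induces the permutation `π` on the eight heptads. -/
def R (g : Matrix (Fin 4) (Fin 4) (ZMod 2)) (π : Equiv.Perm (Fin 8)) : Prop :=
  ∀ i, g * u i * gᵀ = u (π i) + u (π 0)

theorem R.one : R 1 1 := fun i => by simp [u_zero]

theorem R.mul {g h : Matrix (Fin 4) (Fin 4) (ZMod 2)} {π σ : Equiv.Perm (Fin 8)} (hg : R g π)
    (hh : R h σ) : R (g * h) (π * σ) := by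
  intro i
  have e : g * h * u i * (g * h)ᵀ = g * (h * u i * hᵀ) * gᵀ := by
    rw [Matrix.transpose_mul]
    simp only [Matrix.mul_assoc]
  rw [e, hh i, Matrix.mul_add, Matrix.add_mul, hg, hg, add_cancel_mid]
  rfl

theorem R.unique {g : Matrix (Fin 4) (Fin 4) (ZMod 2)} {π σ : Equiv.Perm (Fin 8)} (hg : R g π)
    (hg' : R g σ) : π = σ := by
  have key : ∀ i : Fin 8, i ≠ 0 →
      (π i = σ i ∧ π 0 = σ 0) ∨ (π i = σ 0 ∧ π 0 = σ i) := fun i hi =>
    pair_eq _ _ _ _ (π.injective.ne hi) ((hg i).symm.trans (hg' i))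
  have h0 : π 0 = σ 0 := by
    rcases key 1 (by decide) with ⟨-, h⟩ | ⟨h1, h⟩
    · exact h
    rcases key 2 (by decide) with ⟨-, h'⟩ | ⟨-, h'⟩
    · exact h'
    · exact absurd (σ.injective (h.symm.trans h')) (by decide)
  refine Equiv.ext fun i => ?_
  rcases eq_or_ne i 0 with rfl | hi
  · exact h0
  rcases key i hi with ⟨h, -⟩ | ⟨-, h⟩
  · exact h
  · exact absurd (σ.injective (h.symm.trans h0)) hi

/-- The permutation induced by the transvection `(i, j)`. -/
def tperm : Fin 4 → Fin 4 → Equiv.Perm (Fin 8) :=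
  let s := fun a b : Fin 8 => Equiv.swap a b
  ![![1, s 0 5 * s 1 6 * s 2 4 * s 3 7, s 0 7 * s 1 2 * s 3 5 * s 4 6,
      s 0 1 * s 2 7 * s 3 4 * s 5 6],
    ![s 0 4 * s 1 5 * s 2 6 * s 3 7, 1, s 0 1 * s 2 7 * s 3 6 * s 4 5,
      s 0 2 * s 1 7 * s 3 5 * s 4 6],
    ![s 0 2 * s 1 3 * s 4 6 * s 5 7, s 0 1 * s 2 3 * s 4 7 * s 5 6, 1,
      s 0 6 * s 1 5 * s 2 4 * s 3 7],
    ![s 0 1 * s 2 3 * s 4 5 * s 6 7, s 0 3 * s 1 2 * s 4 6 * s 5 7,
      s 0 5 * s 1 4 * s 2 6 * s 3 7, 1]]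

theorem tperm_spec : ∀ i j : Fin 4, i ≠ j → ∀ k : Fin 8,
    Matrix.transvection i j (1 : ZMod 2) * u k * (Matrix.transvection i j (1 : ZMod 2))ᵀ =
      u (tperm i j k) + u (tperm i j 0) := by
  decide +kernel

theorem tperm_sign : ∀ i j : Fin 4, Equiv.Perm.sign (tperm i j) = 1 := by
  decide +kernel

theorem zmod_two_cases : ∀ c : ZMod 2, c = 0 ∨ c = 1 := by decide

theorem cancel_self (M : Matrix (Fin 4) (Fin 4) (ZMod 2)) : M + M = 0 := by
  ext a b
  exact CharTwo.add_self_eq_zero (M a b)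

theorem R.inv {g h : Matrix (Fin 4) (Fin 4) (ZMod 2)} {π : Equiv.Perm (Fin 8)} (hg : R g π)
    (hgh : h * g = 1) : R h π⁻¹ := by
  have h4 : ∀ M, h * (g * M * gᵀ) * hᵀ = M := fun M => by
    rw [show h * (g * M * gᵀ) * hᵀ = (h * g) * M * (h * g)ᵀ by
      rw [Matrix.transpose_mul]; simp only [Matrix.mul_assoc], hgh, one_mul, transpose_one, mul_one]
  intro i
  have h2 := congrArg (fun M => h * M * hᵀ) (hg (π⁻¹ i))
  have h3 := congrArg (fun M => h * M * hᵀ) (hg (π⁻¹ 0))
  simp only [Equiv.Perm.coe_inv, Equiv.apply_symm_apply, h4, u_zero, zero_add] at h2 h3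
  rw [Matrix.mul_add, Matrix.add_mul] at h2
  simp only [Equiv.Perm.coe_inv]
  rw [h2, h3, add_assoc, cancel_self, add_zero]

/-- The elements inducing an even permutation of the heptads. -/
def heptadGroup : Subgroup (SpecialLinearGroup (Fin 4) (ZMod 2)) where
  carrier := {g | ∃ π : Equiv.Perm (Fin 8), Equiv.Perm.sign π = 1 ∧ R g.1 π}
  one_mem' := ⟨1, map_one _, R.one⟩
  mul_mem' := by
    rintro x y ⟨π, hπs, hπ⟩ ⟨σ, hσs, hσ⟩
    exact ⟨π * σ, by rw [map_mul, hπs, hσs, one_mul], hπ.mul hσ⟩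
  inv_mem' := by
    rintro x ⟨π, hπs, hπ⟩
    refine ⟨π⁻¹, by rw [map_inv, hπs, inv_one], hπ.inv ?_⟩
    exact congrArg Subtype.val (inv_mul_cancel x)

theorem exists_R_aux (g : SpecialLinearGroup (Fin 4) (ZMod 2)) :
    ∃ π : alternatingGroup (Fin 8), R g.1 π.1 := by
  have htop : heptadGroup = ⊤ := by
    rw [eq_top_iff, ← ClassicalSL.closure_elemTransvections, Subgroup.closure_le]
    rintro x ⟨i, j, h, c, rfl⟩
    rcases zmod_two_cases c with rfl | rfl
    · rw [SpecialLinearGroup.transvection_coeff_zero]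
      exact heptadGroup.one_mem
    · exact ⟨tperm i j, tperm_sign i j, fun k => tperm_spec i j h k⟩
  obtain ⟨π, hπs, hπ⟩ : g ∈ heptadGroup := htop ▸ Subgroup.mem_top g
  exact ⟨⟨π, Equiv.Perm.mem_alternatingGroup.2 hπs⟩, hπ⟩

/-- The action on the eight heptads. -/
noncomputable def toAlt : SpecialLinearGroup (Fin 4) (ZMod 2) →* alternatingGroup (Fin 8) :=
  MonoidHom.mk' (fun g => (exists_R_aux g).choose) fun g h =>
    Subtype.ext (R.unique (exists_R_aux (g * h)).choose_spec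
      ((exists_R_aux g).choose_spec.mul (exists_R_aux h).choose_spec))

theorem toAlt_injective : Function.Injective toAlt := by
  haveI := ClassicalSL.isSimpleGroup_psl (ι := Fin 4) (F := ZMod 2) (by simp)
  have hc : Subgroup.center (SpecialLinearGroup (Fin 4) (ZMod 2)) = ⊥ := by
    rw [Subgroup.eq_bot_iff_card, ClassicalSL.card_center_sl, Nat.card_zmod]
    simp
  let q := QuotientGroup.mk' (Subgroup.center (SpecialLinearGroup (Fin 4) (ZMod 2)))
  have hq : Function.Injective q := by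
    rw [← MonoidHom.ker_eq_bot_iff, QuotientGroup.ker_mk', hc]
  rw [← MonoidHom.ker_eq_bot_iff]
  haveI : (toAlt.ker.map q).Normal :=
    Subgroup.Normal.map inferInstance q (QuotientGroup.mk'_surjective _)
  rcases (inferInstance : (toAlt.ker.map q).Normal).eq_bot_or_eq_top with h | h
  · exact (Subgroup.map_eq_bot_iff_of_injective _ hq).1 h
  · exfalso
    let t : SpecialLinearGroup (Fin 4) (ZMod 2) :=
      SpecialLinearGroup.transvection (show (0 : Fin 4) ≠ 1 by decide) 1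
    obtain ⟨g, hg, hgt⟩ : q t ∈ toAlt.ker.map q := h ▸ Subgroup.mem_top _
    obtain rfl := hq hgt
    have h1 : (toAlt t).1 = tperm 0 1 :=
      R.unique (exists_R_aux t).choose_spec fun k => tperm_spec 0 1 (by decide) k
    rw [MonoidHom.mem_ker.1 hg] at h1
    revert h1
    decide +kernel

theorem card_sl_four_two : Nat.card (SpecialLinearGroup (Fin 4) (ZMod 2)) = 20160 := by
  have h := ClassicalSL.card_sl_mul (ι := Fin 4) (F := ZMod 2)
  rw [ClassicalSL.card_gl_fin (Nat.card_zmod 2) 4, Nat.card_zmod] at h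
  have e : (∏ i : Fin 4, (2 ^ 4 - 2 ^ (i : ℕ))) = 20160 := by decide
  rw [e] at h
  omega

/-- `SL₄(2) ≅ A₈`. -/
noncomputable def slEquivAlt : SpecialLinearGroup (Fin 4) (ZMod 2) ≃* alternatingGroup (Fin 8) :=
  MulEquiv.ofBijective toAlt ((Nat.bijective_iff_injective_and_card toAlt).2 ⟨toAlt_injective, by
    have h := two_mul_card_alternatingGroup (α := Fin 8)
    rw [Fintype.card_perm, Fintype.card_fin, show Nat.factorial 8 = 40320 from rfl] at h
    rw [card_sl_four_two, Nat.card_eq_fintype_card]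
    omega⟩)

end Cfsg.Agent.GLFourTwo
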