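import Cfsg.Agent.Lib.GLFourTwo.Subgroups
import Cfsg.Agent.Lib.Char.Burnside
import Cfsg.Agent.Lib.Transfer.Basic
import Mathlib.GroupTheory.SpecificGroups.ZGroup

/-!
Non-solvable subgroups of `A₈` with a normal subgroup of odd prime-power order.
-/

set_option autoImplicit false
set_option linter.unusedSectionVars false
set_option linter.style.haveILetI false

namespace Cfsg.Agent.A8Sub

open Equiv
open scoped Classical

universe u

theorem two_primes_small : ∀ n < 37, 0 < n → n ≠ 30 →
    ∃ pq ∈ [(2, 3), (2, 5), (2, 7), (2, 11), (2, 13), (2, 17), (2, 19), (2, 23), (2, 29), (2, 31),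
      (3, 5), (3, 7), (3, 11), (5, 7)], ∃ a < 6, ∃ b < 4, n = (pq : ℕ × ℕ).1 ^ a * pq.2 ^ b := by
  decide +kernel

theorem solvable_small {G : Type u} [Group G] [Finite G] (h : Nat.card G < 37) :
    Group.IsSolvable G := by
  by_cases h30 : Nat.card G = 30
  · haveI : IsZGroup G := IsZGroup.of_squarefree (by rw [h30]; decide +kernel)
    infer_instance
  · obtain ⟨pq, hpq, a, -, b, -, hab⟩ := two_primes_small _ h Nat.card_pos h30
    have hpr : pq.1.Prime ∧ pq.2.Prime := by
      simp only [List.mem_cons, List.not_mem_nil, or_false] at hpq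
      rcases hpq with rfl | rfl | rfl | rfl | rfl | rfl | rfl | rfl | rfl | rfl | rfl | rfl | rfl | rfl <;>
        norm_num
    exact Cfsg.Agent.Char.isSolvable_of_card_pq pq.1 pq.2 hpr.1 hpr.2 _ G rfl ⟨a, b, hab⟩

variable {H : Type u} [Group H] [Finite H] {ι : H →* Perm (Fin 8)}

theorem cycleType_cases {σ : Perm (Fin 8)} {p : ℕ} (hp : p.Prime) (h2 : p ≠ 2) (hσ : orderOf σ = p)
    (h3 : ¬ σ.IsThreeCycle) :
    Nat.card (Subgroup.centralizer ({σ} : Set (Perm (Fin 8)))) ≤ 36 := by
  obtain ⟨m, hm⟩ := Perm.cycleType_prime_order (σ := σ) (by rw [hσ]; exact hp)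
  rw [hσ] at hm
  have hsum : σ.cycleType.sum ≤ 8 := by
    rw [Perm.sum_cycleType]
    exact (Finset.card_le_univ _).trans_eq (Fintype.card_fin 8)
  rw [hm, Multiset.sum_replicate, smul_eq_mul] at hsum
  have hp3 : 3 ≤ p := by have := hp.two_le; omega
  have hp8 : p ≤ 8 := by nlinarith
  have hm2 : m ≤ 1 := by nlinarith
  rw [Perm.nat_card_centralizer, hm]
  interval_cases p <;> interval_cases m <;>
    first
      | (exfalso; revert hp; norm_num; done)
      | (exfalso; omega)
      | (exfalso; exact h3 (by rw [Perm.IsThreeCycle, hm]; rfl))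
      | decide +kernel

theorem commute_threeCycle {σ τ : Perm (Fin 8)} (hσ : σ.IsThreeCycle) (hτ : τ.IsThreeCycle)
    (h : Commute σ τ) : τ = σ ∨ τ = σ * σ ∨ ¬ (σ * τ).IsThreeCycle := by
  by_cases hd : Perm.Disjoint σ τ
  · refine Or.inr (Or.inr fun hc => ?_)
    rw [Perm.IsThreeCycle, hd.cycleType_mul, hσ.cycleType, hτ.cycleType] at hc
    revert hc
    decide
  · obtain ⟨x, hx⟩ : ∃ x, σ x ≠ x ∧ τ x ≠ x := by
      rw [Perm.disjoint_iff_eq_or_eq] at hd
      push Not at hd
      exact hd
    have hxs : x ∈ σ.support := Perm.mem_support.2 hx.1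
    have hσs := hσ.support_eq_iff_mem_support.2 hxs
    have hcomm : ∀ y, τ (σ y) = σ (τ y) := fun y => (DFunLike.congr_fun h.eq y).symm
    have hsub : σ.support ⊆ τ.support := by
      rw [hσs]
      intro y hy
      rw [Perm.mem_support]
      simp only [Finset.mem_insert, Finset.mem_singleton] at hy
      rcases hy with rfl | rfl | rfl
      · exact hx.2
      · rw [hcomm]; exact σ.injective.ne hx.2
      · rw [hcomm, hcomm]; exact σ.injective.ne (σ.injective.ne hx.2)
    have heq : σ.support = τ.support :=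
      Finset.eq_of_subset_of_card_le hsub (by rw [hσ.card_support, hτ.card_support])
    have htx : τ x ∈ σ.support := by rw [heq, Perm.apply_mem_support, ← heq]; exact hxs
    have key : ∀ ρ : Perm (Fin 8), Commute σ ρ → (∀ y, y ∉ σ.support → ρ y = y) → τ x = ρ x →
        τ = ρ := by
      intro ρ hρ hfix he
      refine Equiv.ext fun y => ?_
      by_cases hy : y ∈ σ.support
      · rw [hσs] at hy
        simp only [Finset.mem_insert, Finset.mem_singleton] at hy
        have hρc : ∀ y, ρ (σ y) = σ (ρ y) := fun y => (DFunLike.congr_fun hρ.eq y).symm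
        rcases hy with rfl | rfl | rfl
        · exact he
        · rw [hcomm, hρc, he]
        · rw [hcomm, hcomm, hρc, hρc, he]
      · rw [hfix y hy]
        exact Perm.notMem_support.1 (heq ▸ hy)
    rw [hσs] at htx
    simp only [Finset.mem_insert, Finset.mem_singleton] at htx
    rcases htx with e | e | e
    · exact absurd e hx.2
    · exact Or.inl (key σ (Commute.refl σ) (fun y hy => Perm.notMem_support.1 hy) e)
    · refine Or.inr (Or.inl (key (σ * σ) ((Commute.refl σ).mul_right (Commute.refl σ))
        (fun y hy => ?_) e))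
      rw [Perm.mul_apply, Perm.notMem_support.1 hy, Perm.notMem_support.1 hy]

/-- An element of odd prime order that is not a single three-cycle cannot lie in a normal
`p`-subgroup of a non-solvable subgroup of `A₈`. -/
theorem isThreeCycle_of_mem (hι : Function.Injective ι) (hns : ¬ Group.IsSolvable H) {p : ℕ}
    (hp : p.Prime) (h2 : p ≠ 2) (K : Subgroup H) [K.Normal] (hK : IsPGroup p ↥K) {σ : H}
    (hσK : σ ∈ K) (hσ : orderOf σ = p) : (ι σ).IsThreeCycle := by
  by_contra h3
  haveI : Fact p.Prime := ⟨hp⟩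
  have hC := cycleType_cases hp h2 (by rw [orderOf_injective ι hι, hσ]) h3
  set C := Subgroup.centralizer ({σ} : Set H) with hCdef
  have hle : Nat.card C ≤ 36 := by
    refine le_trans ?_ hC
    let f : ↥C →* ↥(Subgroup.centralizer ({ι σ} : Set (Perm (Fin 8)))) :=
      MonoidHom.codRestrict (ι.comp C.subtype) _ fun c => by
        have := Subgroup.mem_centralizer_singleton_iff.1 c.2
        rw [Subgroup.mem_centralizer_singleton_iff]
        show ι c * ι σ = ι σ * ι c
        rw [← map_mul, ← map_mul, this]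
    exact Nat.card_le_card_of_injective f fun a b h =>
      Subtype.ext (hι (congrArg Subtype.val h))
  have hσ1 : σ ≠ 1 := fun h => hp.ne_one (by rw [← hσ, h, orderOf_one])
  have hidx : C.index < Nat.card K := by
    let φ : H ⧸ C → ↥K := fun a =>
      ⟨a.out * σ * a.out⁻¹, Subgroup.Normal.conj_mem inferInstance σ hσK a.out⟩
    have hφ : Function.Injective φ := by
      intro a b h
      have e : a.out * σ * a.out⁻¹ = b.out * σ * b.out⁻¹ := congrArg Subtype.val h
      have hc : b.out⁻¹ * a.out ∈ C := by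
        refine Subgroup.mem_centralizer_singleton_iff.2 ?_
        calc b.out⁻¹ * a.out * σ = b.out⁻¹ * (a.out * σ * a.out⁻¹) * a.out := by group
          _ = b.out⁻¹ * (b.out * σ * b.out⁻¹) * a.out := by rw [e]
          _ = σ * (b.out⁻¹ * a.out) := by group
      calc a = (a.out : H ⧸ C) := (QuotientGroup.out_eq' a).symm
        _ = (b.out : H ⧸ C) := (QuotientGroup.eq.2 hc).symm
        _ = b := QuotientGroup.out_eq' b
    have h1 : (1 : ↥K) ∉ Set.range φ := by
      rintro ⟨a, ha⟩
      exact hσ1 (conj_eq_one_iff.1 (congrArg Subtype.val ha))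
    have := Nat.card_range_of_injective hφ
    rw [Subgroup.index, ← this]
    calc Nat.card (Set.range φ) = (Set.range φ).ncard := rfl
      _ < Nat.card ↥K := by
        rw [← Set.ncard_univ]
        exact Set.ncard_lt_ncard (Set.ssubset_univ_iff.2 fun h => h1 (h ▸ Set.mem_univ _))
  have hKidx : K.index < 37 := by
    by_contra hlt
    have e1 := K.card_mul_index
    have e2 := C.card_mul_index
    have h3' : Nat.card C * C.index < 37 * Nat.card K := by
      have := Nat.card_pos (α := C)
      nlinarith
    have h4 : Nat.card K * 37 ≤ Nat.card K * K.index := Nat.mul_le_mul_left _ (not_lt.1 hlt)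
    omega
  haveI : Group.IsNilpotent ↥K := hK.isNilpotent
  haveI : Group.IsSolvable ↥K := inferInstance
  haveI : Group.IsSolvable (H ⧸ K) := solvable_small hKidx
  exact hns (Group.isSolvable_of_ker_le_range K.subtype (QuotientGroup.mk' K) (by simp))

/-- A normal subgroup of odd prime-power order in a non-solvable subgroup of `A₈` contains a
normal subgroup generated by a three-cycle. -/
theorem exists_threeCycle (hι : Function.Injective ι) (hns : ¬ Group.IsSolvable H) {p : ℕ}
    (hp : p.Prime) (h2 : p ≠ 2) (K : Subgroup H) [hKn : K.Normal] (hK : IsPGroup p ↥K)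
    (hne : K ≠ ⊥) : ∃ σ : H, (ι σ).IsThreeCycle ∧ (Subgroup.zpowers σ).Normal := by
  haveI : Fact p.Prime := ⟨hp⟩
  haveI : Nontrivial ↥K := (Subgroup.nontrivial_iff_ne_bot K).2 hne
  haveI := hK.center_nontrivial
  obtain ⟨n, hn⟩ := (hK.to_subgroup (Subgroup.center ↥K)).exists_card_eq
  have hn0 : n ≠ 0 := by
    rintro rfl
    rw [pow_zero] at hn
    exact absurd hn (Finite.one_lt_card (α := Subgroup.center ↥K)).ne'
  obtain ⟨z, hz⟩ := exists_prime_orderOf_dvd_card' (G := Subgroup.center ↥K) p
    (hn ▸ dvd_pow_self p hn0)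
  rw [← Subgroup.orderOf_coe, ← Subgroup.orderOf_coe] at hz
  set σ : H := ((z : ↥K) : H) with hσdef
  have hσK : σ ∈ K := (z : ↥K).2
  have h3 := isThreeCycle_of_mem hι hns hp h2 K hK hσK hz
  refine ⟨σ, h3, ⟨fun x hx g => ?_⟩⟩
  obtain ⟨k, rfl⟩ := Subgroup.mem_zpowers_iff.1 hx
  suffices hτ : g * σ * g⁻¹ ∈ Subgroup.zpowers σ by
    rw [← conj_zpow]
    exact zpow_mem hτ k
  set τ := g * σ * g⁻¹ with hτdef
  have hτK : τ ∈ K := hKn.conj_mem σ hσK g
  have hτo : orderOf τ = p := by
    rw [← hz]
    exact (MulAut.conj g).orderOf_eq σ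
  have hcomm : Commute σ τ :=
    (congrArg Subtype.val (Subgroup.mem_center_iff.1 z.2 ⟨τ, hτK⟩)).symm
  rcases commute_threeCycle h3 (isThreeCycle_of_mem hι hns hp h2 K hK hτK hτo)
      (hcomm.map ι) with e | e | e
  · rw [hι e]; exact Subgroup.mem_zpowers σ
  · rw [← map_mul] at e
    rw [hι e]
    exact mul_mem (Subgroup.mem_zpowers σ) (Subgroup.mem_zpowers σ)
  · by_cases h1 : σ * τ = 1
    · rw [eq_inv_of_mul_eq_one_right h1]
      exact inv_mem (Subgroup.mem_zpowers σ)
    · exfalso
      refine e ?_
      rw [← map_mul]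
      refine isThreeCycle_of_mem hι hns hp h2 K hK (mul_mem hσK hτK) (orderOf_eq_prime ?_ h1)
      rw [hcomm.mul_pow, ← hz]
      rw [pow_orderOf_eq_one, hz, ← hτo, pow_orderOf_eq_one, mul_one]

theorem normal_three_group_eq_bot {G : Type u} [Group G] [Finite G]
    (e : Nonempty (G ≃* alternatingGroup (Fin 5)) ∨ Nonempty (G ≃* Perm (Fin 5)))
    (P : Subgroup G) (hPn : P.Normal) (hP : IsPGroup 3 ↥P) : P = ⊥ := by
  have key : ∀ P : Subgroup (alternatingGroup (Fin 5)), P.Normal → IsPGroup 3 ↥P → P = ⊥ := by
    intro P hn hp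
    haveI : IsSimpleGroup (alternatingGroup (Fin 5)) := alternatingGroup.isSimpleGroup (by simp)
    refine hn.eq_bot_or_eq_top.resolve_right fun h => ?_
    haveI : Fact (Nat.Prime 3) := ⟨Nat.prime_three⟩
    obtain ⟨k, hk⟩ := hp.exists_card_eq
    have h60 := card_alternating 5 (by norm_num)
    rw [show Nat.factorial 5 = 120 from rfl] at h60
    rw [h, Subgroup.card_top, show Nat.card (alternatingGroup (Fin 5)) = 60 by omega] at hk
    have h2 : 2 ∣ 3 ^ k := by rw [← hk]; norm_num
    exact absurd (Nat.prime_two.dvd_of_dvd_pow h2) (by norm_num)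
  rcases e with e | e <;> obtain ⟨e⟩ := e
  · exact (Subgroup.map_eq_bot_iff_of_injective _ e.injective).1
      (key _ (Subgroup.Normal.map hPn e.toMonoidHom e.surjective) (hP.map _))
  · refine (Subgroup.map_eq_bot_iff_of_injective (f := e.toMonoidHom) _ e.injective).1 ?_
    set P' := P.map e.toMonoidHom with hP'
    haveI hn' : P'.Normal := Subgroup.Normal.map hPn e.toMonoidHom e.surjective
    have hp' : IsPGroup 3 ↥P' := hP.map _
    have hA : P' ≤ alternatingGroup (Fin 5) := by
      intro x hx
      obtain ⟨k, hk⟩ := hp' ⟨x, hx⟩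
      have hk' : x ^ 3 ^ k = 1 := congrArg Subtype.val hk
      have h1 := congrArg Perm.sign hk'
      rw [map_pow, map_one] at h1
      rw [Perm.mem_alternatingGroup]
      rcases Int.units_eq_one_or (Perm.sign x) with h | h
      · exact h
      · rw [h, (Odd.pow (by decide : Odd 3)).neg_one_pow] at h1
        exact absurd h1 (by decide)
    have h0 := key (P'.subgroupOf (alternatingGroup (Fin 5))) inferInstance
      (hp'.comap_of_injective _ (Subgroup.subtype_injective _))
    rw [eq_bot_iff]
    intro x hx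
    have : (⟨x, hA hx⟩ : alternatingGroup (Fin 5)) ∈ P'.subgroupOf _ := hx
    rw [h0, Subgroup.mem_bot] at this
    exact congrArg Subtype.val this

/-- The local case. -/
theorem of_threeCycle (hι : Function.Injective ι) (hs : ∀ h, Perm.sign (ι h) = 1)
    (hns : ¬ Group.IsSolvable H) {σ : H} (h3 : (ι σ).IsThreeCycle)
    (hn : (Subgroup.zpowers σ).Normal) :
    Nat.card ↥(Cfsg.pCore 3 H) = 3 ∧
      (Nonempty (H ⧸ Cfsg.pCore 3 H ≃* alternatingGroup (Fin 5)) ∨
        Nonempty (H ⧸ Cfsg.pCore 3 H ≃* Perm (Fin 5))) := by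
  haveI : Fact (Nat.Prime 3) := ⟨Nat.prime_three⟩
  haveI := hn
  set R := Subgroup.zpowers σ with hR
  have hR3 : Nat.card R = 3 := by
    rw [hR, Nat.card_zpowers, ← orderOf_injective ι hι, h3.orderOf]
  set M := moved ι R with hMdef
  have hM : M = (ι σ).support := by
    ext x
    rw [hMdef, mem_moved, Perm.mem_support]
    refine ⟨fun ⟨t, ht, hne⟩ he => hne ?_, fun h => ⟨σ, Subgroup.mem_zpowers σ, h⟩⟩
    obtain ⟨k, rfl⟩ := Subgroup.mem_zpowers_iff.1 ht
    rw [map_zpow]
    exact Perm.zpow_apply_eq_self_of_apply_eq_self he k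
  let g : H →* Perm {x // x ∉ M} :=
    { toFun := fun h => (ι h).subtypePerm fun x => not_congr (moved_map R h x)
      map_one' := by ext x; simp
      map_mul' := fun a b => Equiv.ext fun x => Subtype.ext (by
        show ι (a * b) x = ι a (ι b x)
        rw [map_mul]; rfl) }
  have hfix : ∀ h ∈ g.ker, ∀ x, x ∉ M → ι h x = x := fun h hh x hx =>
    congrArg Subtype.val (DFunLike.congr_fun (MonoidHom.mem_ker.1 hh) (⟨x, hx⟩ : {y // y ∉ M}))
  let k : ↥g.ker →* Perm {x // x ∈ M} :=
    { toFun := fun h => (ι h).subtypePerm fun x => moved_map R h.1 x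
      map_one' := by ext x; simp
      map_mul' := fun a b => Equiv.ext fun x => Subtype.ext (by
        show ι ((a : H) * b) x = ι a (ι b x)
        rw [map_mul]; rfl) }
  have hksign : ∀ h, Perm.sign (k h) = 1 := by
    intro h
    show Perm.sign ((ι h.1).subtypePerm (p := fun x => x ∈ M) fun x => moved_map R h.1 x) = 1
    refine Eq.trans ?_ (hs h.1)
    convert Perm.sign_subtypePerm (ι h.1) (fun x => moved_map R h.1 x) (fun x hx => by
      by_contra hx'
      exact hx (hfix h h.2 x hx'))
  have hk : Function.Injective k := by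
    rw [← MonoidHom.ker_eq_bot_iff, Subgroup.eq_bot_iff_forall]
    intro h hh
    refine Subtype.ext (hι (Equiv.ext fun x => ?_))
    rw [show ((1 : ↥g.ker) : H) = 1 from rfl, map_one, Perm.one_apply]
    by_cases hx : x ∈ M
    · exact congrArg Subtype.val (DFunLike.congr_fun (MonoidHom.mem_ker.1 hh) ⟨x, hx⟩)
    · exact hfix h h.2 x hx
  have hM3 : Fintype.card {x // x ∈ M} = 3 := by rw [Fintype.card_coe, hM, h3.card_support]
  have hker : g.ker = R := by
    have hle : R ≤ g.ker := by
      intro t ht
      refine MonoidHom.mem_ker.2 (Equiv.ext fun x => Subtype.ext ?_)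
      show ι t x = x
      by_contra hne
      exact x.2 (mem_moved.2 ⟨t, ht, hne⟩)
    refine (Subgroup.eq_of_le_of_card_ge hle ?_).symm
    rw [hR3]
    let k' : ↥g.ker →* alternatingGroup {x // x ∈ M} :=
      k.codRestrict _ fun h => Perm.mem_alternatingGroup.2 (hksign h)
    refine (Nat.card_le_card_of_injective k' fun a b h => hk (congrArg Subtype.val h)).trans ?_
    haveI : Nontrivial {x // x ∈ M} := Fintype.one_lt_card_iff_nontrivial.1 (by omega)
    have h2 := two_mul_card_alternatingGroup (α := {x // x ∈ M})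
    rw [Fintype.card_perm, hM3, show Nat.factorial 3 = 6 from rfl] at h2
    rw [Nat.card_eq_fintype_card]
    omega
  -- the five remaining points
  have hF5 : Fintype.card {x // x ∉ M} = 5 := by
    rw [Fintype.card_subtype_compl, hM3, Fintype.card_fin]
  let g5 : H →* Perm (Fin 5) := (Fintype.equivFinOfCardEq hF5).permCongrHom.toMonoidHom.comp g
  have hker5 : g5.ker = R := by
    rw [← hker]
    ext h
    simp [g5, MonoidHom.mem_ker]
  set I := g5.range with hI
  let eI : H ⧸ R ≃* I := (QuotientGroup.quotientMulEquivOfEq hker5.symm).trans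
    (QuotientGroup.quotientKerEquivRange g5)
  have hbig : ¬ Nat.card I < 37 := by
    intro hlt
    haveI : Group.IsSolvable ↥R := Group.isSolvable_of_comm fun a b => mul_comm' a b
    haveI : Group.IsSolvable (H ⧸ R) :=
      solvable_small (by rw [Nat.card_congr eI.toEquiv]; exact hlt)
    exact hns (Group.isSolvable_of_ker_le_range R.subtype (QuotientGroup.mk' R) (by simp))
  have hcase : Nonempty (H ⧸ R ≃* alternatingGroup (Fin 5)) ∨ Nonempty (H ⧸ R ≃* Perm (Fin 5)) := by
    have h120 : Nat.card (Perm (Fin 5)) = 120 := by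
      rw [Nat.card_perm, Nat.card_eq_fintype_card, Fintype.card_fin]; rfl
    have hmul := I.card_mul_index
    rw [h120] at hmul
    have hi : I.index = 1 ∨ I.index = 2 ∨ I.index = 3 := by
      have : I.index ≤ 3 := by nlinarith
      have : I.index ≠ 0 := Subgroup.index_ne_zero_of_finite
      omega
    rcases hi with h | h | h
    · exact Or.inr ⟨eI.trans ((MulEquiv.subgroupCongr (Subgroup.index_eq_one.1 h)).trans
        Subgroup.topEquiv)⟩
    · exact Or.inl ⟨eI.trans (MulEquiv.subgroupCongr
        (Perm.eq_alternatingGroup_of_index_eq_two h))⟩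
    · exfalso
      haveI : IsSimpleGroup (alternatingGroup (Fin 5)) := alternatingGroup.isSimpleGroup (by simp)
      have hrel : I.relIndex (alternatingGroup (Fin 5)) ≤ 3 :=
        (Subgroup.relIndex_le_of_le_right le_top (by rw [Subgroup.relIndex_top_right, h]; norm_num)).trans
          (by rw [Subgroup.relIndex_top_right, h])
      by_cases ht : I.subgroupOf (alternatingGroup (Fin 5)) = ⊤
      · have hd := Subgroup.card_dvd_of_le (Subgroup.subgroupOf_eq_top.1 ht)
        have hA := card_alternating 5 (by norm_num)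
        rw [show Nat.factorial 5 = 120 from rfl] at hA
        rw [show Nat.card (alternatingGroup (Fin 5)) = 60 by omega] at hd
        rw [h] at hmul
        rw [show Nat.card I = 40 by omega] at hd
        norm_num at hd
      · have h60 : ¬ IsMulCommutative (alternatingGroup (Fin 5)) := fun hc => by
          have h := DFunLike.congr_fun (congrArg Subtype.val (hc.is_comm.comm
            (⟨swap 0 1 * swap 1 2, Perm.mem_alternatingGroup.2 (by
              rw [map_mul, Perm.sign_swap (by decide), Perm.sign_swap (by decide)]; rfl)⟩ :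
                alternatingGroup (Fin 5))
            ⟨swap 2 3 * swap 3 4, Perm.mem_alternatingGroup.2 (by
              rw [map_mul, Perm.sign_swap (by decide), Perm.sign_swap (by decide)]; rfl)⟩)) 1
          revert h
          decide +kernel
        have := Small.five_le_index h60 ht
        rw [← Subgroup.relIndex] at this
        omega
  have hcore : Cfsg.pCore 3 H = R := by
    refine le_antisymm ?_ (le_sSup ⟨hn, IsPGroup.of_card (n := 1) (by rw [hR3]; rfl)⟩)
    intro x hx
    have hmap := normal_three_group_eq_bot hcase ((Cfsg.pCore 3 H).map (QuotientGroup.mk' R))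
      (Subgroup.Normal.map inferInstance _ (QuotientGroup.mk'_surjective R))
      ((PBasic.pCore_isPGroup 3 H).map _)
    have := Subgroup.mem_map_of_mem (QuotientGroup.mk' R) hx
    rw [hmap, Subgroup.mem_bot] at this
    exact (QuotientGroup.eq_one_iff x).1 this
  refine ⟨by rw [hcore, hR3], ?_⟩
  rcases hcase with e | e <;> obtain ⟨e⟩ := e
  · exact Or.inl ⟨(QuotientGroup.quotientMulEquivOfEq hcore).trans e⟩
  · exact Or.inr ⟨(QuotientGroup.quotientMulEquivOfEq hcore).trans e⟩

end Cfsg.Agent.A8Sub
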