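import Cfsg.Agent.Lib.Small.Embedding
import Cfsg.Agent.Lib.Small.SylowToolkit
import Cfsg.Agent.S0989
import Cfsg.Agent.S0990
import Mathlib.GroupTheory.SpecificGroups.Alternating.Simple
import Mathlib.GroupTheory.Perm.Centralizer

/-!
Tools for the subgroups of the alternating group of degree eight.
-/

set_option autoImplicit false
set_option linter.unusedSectionVars false
set_option linter.style.haveILetI false

namespace Cfsg.Agent.A8Sub

open Equiv MulAction
open scoped Classical

/-- A point stabiliser in a faithful action on `n + 1` cosets acts faithfully on the other `n`. -/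
theorem exists_hom_point {G : Type*} [Group G] [Finite G] {n : ℕ} (K : Subgroup G)
    (hK : K.index = n + 1) (hinj : Function.Injective (toPermHom G (G ⧸ K))) :
    ∃ f : ↥K →* Perm (Fin n), Function.Injective f := by
  let q0 : G ⧸ K := ((1 : G) : G ⧸ K)
  have hfix : ∀ k : ↥K, (k : G) • q0 = q0 := by
    intro k
    show (((k : G) * 1 : G) : G ⧸ K) = ((1 : G) : G ⧸ K)
    rw [mul_one, QuotientGroup.eq, mul_one]
    exact inv_mem k.2
  have h1 : ∀ (k : ↥K) (q : G ⧸ K), toPermHom G (G ⧸ K) (k : G) q ≠ q0 ↔ q ≠ q0 := by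
    intro k q
    have e : toPermHom G (G ⧸ K) (k : G) q = (k : G) • q := rfl
    rw [e]
    constructor
    · intro h hq; exact h (hq ▸ hfix k)
    · intro h hq
      exact h (smul_left_cancel (k : G) (hq.trans (hfix k).symm))
  let f : ↥K →* Perm {q : G ⧸ K // q ≠ q0} :=
    { toFun := fun k => (toPermHom G (G ⧸ K) (k : G)).subtypePerm (h1 k)
      map_one' := by ext q; simp
      map_mul' := fun a b => by
        ext q
        exact mul_smul (a : G) (b : G) (q : G ⧸ K) }
  have hf : Function.Injective f := by
    intro a b hab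
    refine Subtype.ext (hinj (Equiv.ext fun q => ?_))
    show (a : G) • q = (b : G) • q
    by_cases hq : q = q0
    · rw [hq, hfix, hfix]
    · exact congrArg Subtype.val (DFunLike.congr_fun hab ⟨q, hq⟩)
  letI : Fintype (G ⧸ K) := Fintype.ofFinite _
  have hc : Fintype.card {q : G ⧸ K // q ≠ q0} = n := by
    rw [Fintype.card_subtype_compl, Fintype.card_subtype_eq, ← Nat.card_eq_fintype_card]
    have : Nat.card (G ⧸ K) = n + 1 := hK
    omega
  exact ⟨(Fintype.equivFinOfCardEq hc).permCongrHom.toMonoidHom.comp f,
    (Fintype.equivFinOfCardEq hc).permCongrHom.injective.comp hf⟩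

theorem card_alternating (n : ℕ) (hn : 2 ≤ n) :
    2 * Nat.card (alternatingGroup (Fin n)) = n.factorial := by
  have : Nontrivial (Fin n) := Fin.nontrivial_iff_two_le.mpr hn
  rw [two_mul_nat_card_alternatingGroup, Nat.card_perm, Nat.card_eq_fintype_card, Fintype.card_fin]

theorem card_alt8 : Nat.card (alternatingGroup (Fin 8)) = 20160 := by
  have h := card_alternating 8 (by norm_num)
  rw [show Nat.factorial 8 = 40320 from rfl] at h
  omega

/-- An isomorphism from an injective homomorphism between groups of equal order. -/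
theorem nonempty_equiv {A B : Type*} [Group A] [Group B] [Finite B] (f : A →* B)
    (hf : Function.Injective f) (h : Nat.card A = Nat.card B) : Nonempty (A ≃* B) :=
  ⟨MulEquiv.ofBijective f ((Nat.bijective_iff_injective_and_card _).2 ⟨hf, h⟩)⟩

/-- A subgroup of index eight of `A₈` is isomorphic to `A₇`. -/
theorem equiv_alt_seven (K : Subgroup (alternatingGroup (Fin 8))) (hK : Nat.card K = 2520) :
    Nonempty (↥K ≃* alternatingGroup (Fin 7)) := by
  haveI : IsSimpleGroup (alternatingGroup (Fin 8)) := alternatingGroup.isSimpleGroup (by simp)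
  have hidx : K.index = 7 + 1 := by
    have h := K.card_mul_index
    rw [hK, card_alt8] at h
    omega
  have hne : K ≠ ⊤ := fun h => by rw [h, Subgroup.index_top] at hidx; omega
  obtain ⟨f, hf⟩ := exists_hom_point K hidx (Small.toPermHom_injective hne)
  -- the image is the unique subgroup of index two
  have himg : f.range = alternatingGroup (Fin 7) := by
    refine Equiv.Perm.eq_alternatingGroup_of_index_eq_two ?_
    have h := f.range.card_mul_index
    have hr : Nat.card f.range = 2520 := by
      rw [← hK]; exact Nat.card_congr (MonoidHom.ofInjective hf).symm.toEquiv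
    rw [hr, Nat.card_perm, Nat.card_eq_fintype_card (α := Fin 7), Fintype.card_fin,
      show Nat.factorial 7 = 5040 from rfl] at h
    omega
  exact ⟨(MonoidHom.ofInjective hf).trans (MulEquiv.subgroupCongr himg)⟩

theorem three_cycle_choice : ∀ a b : Fin 6, a ≠ b →
    ∃ c d : Fin 6, c ≠ a ∧ d ≠ a ∧ c ≠ d ∧ c ≠ b ∧ d ≠ b := by decide

/-- A subgroup of index six of `S₆` is isomorphic to `S₅`. -/
theorem equiv_sym_five (K : Subgroup (Perm (Fin 6))) (hK : Nat.card K = 120) :
    Nonempty (↥K ≃* Perm (Fin 5)) := by
  haveI : IsSimpleGroup (alternatingGroup (Fin 6)) := alternatingGroup.isSimpleGroup (by simp)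
  have hidx : K.index = 5 + 1 := by
    have h := K.card_mul_index
    rw [hK, Nat.card_perm, Nat.card_eq_fintype_card (α := Fin 6), Fintype.card_fin,
      show Nat.factorial 6 = 720 from rfl] at h
    omega
  have hinj : Function.Injective (toPermHom (Perm (Fin 6)) (Perm (Fin 6) ⧸ K)) := by
    rw [← MonoidHom.ker_eq_bot_iff, ← Subgroup.normalCore_eq_ker]
    rcases (inferInstance : (K.normalCore.subgroupOf (alternatingGroup (Fin 6))).Normal).eq_bot_or_eq_top with h | h
    · rw [Subgroup.eq_bot_iff_forall]
      intro n hn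
      refine Equiv.ext fun a => ?_
      by_contra hne
      rw [Perm.one_apply] at hne
      obtain ⟨c, d, hca, hda, hcd, hcb, hdb⟩ := three_cycle_choice a (n a) (Ne.symm hne)
      set g : Perm (Fin 6) := swap a c * swap a d with hg
      have hgA : g ∈ alternatingGroup (Fin 6) := by
        rw [Perm.mem_alternatingGroup, hg, map_mul, Perm.sign_swap hca.symm, Perm.sign_swap hda.symm]
        decide
      have hk : n * g * n⁻¹ * g⁻¹ ∈ K.normalCore := by
        have h1 := K.normalCore_normal.conj_mem _ (inv_mem hn) g
        have h2 := mul_mem hn h1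
        simpa [mul_assoc] using h2
      have hA : n * g * n⁻¹ * g⁻¹ ∈ alternatingGroup (Fin 6) := by
        rw [Perm.mem_alternatingGroup] at hgA ⊢
        simp [hgA]
      have h1 : (⟨_, hA⟩ : alternatingGroup (Fin 6)) ∈
          K.normalCore.subgroupOf (alternatingGroup (Fin 6)) := hk
      rw [h, Subgroup.mem_bot, Subtype.ext_iff] at h1
      have hcomm : n * g = g * n := by
        have h2 : n * g * n⁻¹ * g⁻¹ = 1 := h1
        have h3 := mul_inv_eq_one.1 h2
        exact mul_inv_eq_iff_eq_mul.1 h3
      have hga : g a = d := by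
        rw [hg, Perm.mul_apply, swap_apply_left, swap_apply_of_ne_of_ne hda hcd.symm]
      have hgb : g (n a) = n a := by
        rw [hg, Perm.mul_apply, swap_apply_of_ne_of_ne hne hdb.symm,
          swap_apply_of_ne_of_ne hne hcb.symm]
      have h4 := DFunLike.congr_fun hcomm a
      change n (g a) = g (n a) at h4
      rw [hga, hgb] at h4
      exact hda (n.injective h4)
    · exfalso
      have hle : alternatingGroup (Fin 6) ≤ K :=
        (Subgroup.subgroupOf_eq_top.1 h).trans K.normalCore_le
      have hd := Subgroup.card_dvd_of_le hle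
      have hA := card_alternating 6 (by norm_num)
      rw [show Nat.factorial 6 = 720 from rfl] at hA
      rw [hK, show Nat.card (alternatingGroup (Fin 6)) = 360 by omega] at hd
      omega
  obtain ⟨f, hf⟩ := exists_hom_point K hidx hinj
  exact nonempty_equiv f hf (by
    rw [hK, Nat.card_perm, Nat.card_eq_fintype_card (α := Fin 5), Fintype.card_fin]; rfl)

/-- The normaliser in `A₈` of a subgroup of order seven has order at most `21`. -/
theorem card_normalizer_seven (Q : Subgroup (Perm (Fin 8))) (hQ : Nat.card Q = 7) :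
    Nat.card ↥(Subgroup.normalizer (Q : Set (Perm (Fin 8))) ⊓ alternatingGroup (Fin 8)) ∣ 21 := by
  haveI : Fact (Nat.Prime 7) := ⟨by norm_num⟩
  have hk : Nat.card (Perm (Fin 8)) = 7 ^ 1 * 5760 := by
    rw [Nat.card_perm, Nat.card_eq_fintype_card (α := Fin 8), Fintype.card_fin]; rfl
  let P : Sylow 7 (Perm (Fin 8)) := Sylow.ofCard Q (by
    rw [hQ, hk, Nat.factorization_mul (by norm_num) (by norm_num),
      Nat.Prime.factorization_pow (by norm_num)]
    simp [Nat.factorization_eq_zero_of_not_dvd])
  have h1 := Cfsg.Agent.S0989.result (α := Fin 8) 7 (Or.inr (by simp)) P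
  obtain ⟨hPA, h2⟩ := Cfsg.Agent.S0990.result (α := Fin 8) (by simp) 7 (by norm_num) P
  rw [h1] at h2
  have h21 : Nat.card ↥(Subgroup.normalizer
      ((((P : Subgroup (Perm (Fin 8))).subgroupOf (alternatingGroup (Fin 8)) :
        Subgroup ↥(alternatingGroup (Fin 8)))) : Set ↥(alternatingGroup (Fin 8)))) = 21 := by omega
  rw [← h21]
  let ψ : ↥(Subgroup.normalizer (Q : Set (Perm (Fin 8))) ⊓ alternatingGroup (Fin 8)) →*
      ↥(Subgroup.normalizer ((((P : Subgroup (Perm (Fin 8))).subgroupOf (alternatingGroup (Fin 8)) :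
        Subgroup ↥(alternatingGroup (Fin 8)))) : Set ↥(alternatingGroup (Fin 8)))) :=
    { toFun := fun x => ⟨⟨x.1, x.2.2⟩, Subgroup.mem_normalizer_iff.2 fun y =>
        Subgroup.mem_normalizer_iff.1 x.2.1 (y : Perm (Fin 8))⟩
      map_one' := rfl
      map_mul' := fun _ _ => rfl }
  exact Subgroup.card_dvd_of_injective ψ fun a b h =>
    Subtype.ext (congrArg (fun z => ((z : ↥(alternatingGroup (Fin 8))) : Perm (Fin 8))) (congrArg Subtype.val h))

end Cfsg.Agent.A8Sub
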