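import Cfsg.Agent.Lib.GLFourTwo.Heptads
import Cfsg.Prelude.Def_CaseTheorems

/-!
A group inducing on an elementary abelian group of order `16` the centraliser in `A₈` of a pair of
points has sectional `2`-rank at least five.
-/

set_option autoImplicit false
set_option linter.unusedSectionVars false

namespace Cfsg.Agent.RankFive

open Matrix

abbrev V4 := Fin 4 → ZMod 2
abbrev M4 := Matrix (Fin 4) (Fin 4) (ZMod 2)
abbrev S4 := SpecialLinearGroup (Fin 4) (ZMod 2)

/-- Three elements generating a four-group and a transposition on the last two points. -/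
def T : Fin 3 → M4 :=
  ![!![1,0,0,0; 0,1,0,0; 0,0,1,0; 1,0,0,1],
    !![1,0,0,0; 0,1,0,0; 0,1,1,0; 0,1,0,1],
    !![1,0,0,0; 0,1,0,0; 1,1,1,0; 0,0,0,1]]

/-- The elements of order three used: `Z k` commutes with the first and is inverted by the second
member of the `k`-th ordered pair. -/
def Z : Fin 6 → M4 :=
  ![!![1,0,0,0; 0,0,1,0; 0,1,1,0; 0,0,1,1],
    !![0,1,1,1; 0,1,0,0; 0,0,1,0; 1,0,0,1],
    !![1,0,0,0; 0,0,1,0; 1,1,1,0; 0,0,0,1],
    !![0,1,0,1; 1,0,0,1; 0,0,1,0; 0,1,0,0],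
    !![0,1,1,1; 0,1,0,0; 0,0,0,1; 1,1,1,0],
    !![0,1,0,1; 1,0,0,1; 1,0,1,1; 1,0,0,0]]

/-- The ordered pairs. -/
def pr : Fin 6 → Fin 3 × Fin 3 := ![(0, 1), (1, 0), (0, 2), (2, 0), (1, 2), (2, 1)]

/-- All the matrices used. -/
def Mat : Fin 9 → M4 := ![T 0, T 1, T 2, Z 0, Z 1, Z 2, Z 3, Z 4, Z 5]

/-- The permutations of the heptads induced by them. -/
def Pm : Fin 9 → Equiv.Perm (Fin 8) :=
  let s := fun a b : Fin 8 => Equiv.swap a b
  ![s 0 1 * s 2 3 * s 4 5 * s 6 7, s 0 2 * s 1 3 * s 4 5 * s 6 7, s 0 3 * s 1 2 * s 4 5 * s 6 7,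
    s 0 3 * s 3 5 * (s 1 2 * s 2 4), s 0 3 * s 3 5 * (s 1 4 * s 4 2),
    s 0 2 * s 2 4 * (s 1 3 * s 3 5), s 0 2 * s 2 5 * (s 1 4 * s 4 3),
    s 0 1 * s 1 4 * (s 2 3 * s 3 5), s 0 1 * s 1 4 * (s 2 5 * s 5 3)]

theorem det_mat : ∀ k, (Mat k).det = 1 := by decide +kernel

/-- The matrices as elements of `SL₄(2)`. -/
def sl (k : Fin 9) : S4 := ⟨Mat k, det_mat k⟩

theorem R_mat : ∀ k i, Mat k * GLFourTwo.u i * (Mat k)ᵀ =
    GLFourTwo.u (Pm k i) + GLFourTwo.u (Pm k 0) := by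
  decide +kernel

theorem toAlt_sl (k : Fin 9) : (GLFourTwo.toAlt (sl k)).1 = Pm k :=
  GLFourTwo.R.unique (GLFourTwo.exists_R_aux (sl k)).choose_spec (R_mat k)

theorem preserves : ∀ k, ∀ x : Fin 8, ((Pm k x : Fin 8) : ℕ) < 6 ↔ (x : ℕ) < 6 := by
  decide +kernel

theorem T_sq : ∀ i, T i * T i = 1 := by decide +kernel
theorem Z_cube : ∀ k, Z k * (Z k * Z k) = 1 := by decide +kernel
theorem T_comm : ∀ i j, T i * T j = T j * T i := by decide +kernel
theorem TZ_fst : ∀ k, T (pr k).1 * Z k = Z k * T (pr k).1 := by decide +kernel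
theorem TZ_snd : ∀ k, T (pr k).2 * Z k = Z k * Z k * T (pr k).2 := by decide +kernel

/-- The subspace fixed by the three elements. -/
def W (v : V4) : Prop := v 0 = 0 ∧ v 1 = 0

instance : DecidablePred W := fun v => inferInstanceAs (Decidable (_ ∧ _))

theorem W_T : ∀ i, ∀ v, W v → T i *ᵥ v = v := by decide +kernel
theorem W_commutator : ∀ i, ∀ v, W (v + T i *ᵥ v) := by decide +kernel
theorem W_add : ∀ v w, W v → W w → W (v + w) := by decide +kernel
theorem W_fix : ∀ k : Fin 6, ∀ s, T (pr k).1 *ᵥ s = s → Z k *ᵥ s = s → W s := by decide +kernel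
theorem W_meet : ∀ k : Fin 6, ∀ k', pr k' = ((pr k).2, (pr k).1) → ∀ c d : V4,
    Z k *ᵥ c = c → Z k' *ᵥ d = d → W (c + d) → W c := by
  decide +kernel
theorem coboundary : ∀ k : Fin 6, ∀ B ∈ [Z k, Z k * Z k], ∀ u : V4,
    u + B *ᵥ u + (B * B) *ᵥ u = 0 → ∃ v, v + B *ᵥ v = u := by
  decide +kernel
theorem prod_injective : ∀ b c : Fin 3 → Fin 2,
    T 0 ^ (b 0 : ℕ) * T 1 ^ (b 1 : ℕ) * T 2 ^ (b 2 : ℕ) =
      T 0 ^ (c 0 : ℕ) * T 1 ^ (c 1 : ℕ) * T 2 ^ (c 2 : ℕ) → b = c := by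
  decide +kernel
theorem exists_pair : ∀ i j : Fin 3, i ≠ j → ∃ k k', pr k = (i, j) ∧ pr k' = (j, i) := by decide
theorem exists_fst : ∀ i : Fin 3, ∃ k, (pr k).1 = i := by decide
theorem mat_T : ∀ i : Fin 3, ∃ k, Mat k = T i := by decide +kernel
theorem mat_Z : ∀ i : Fin 6, ∃ k, Mat k = Z i := by decide +kernel
theorem add_self (v : V4) : v + v = 0 := funext fun i => CharTwo.add_self_eq_zero (v i)

variable {Y : Type*} [Group Y]

/-- `y` induces `A` on the image of `e`. -/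
def Lift {r : ℕ} (e : (Fin r → ZMod 2) → Y) (y : Y) (A : Matrix (Fin r) (Fin r) (ZMod 2)) : Prop :=
  ∀ a, y * e a * y⁻¹ = e (A *ᵥ a)

theorem Lift.mul {r : ℕ} {e : (Fin r → ZMod 2) → Y} {x y : Y} {A B : Matrix (Fin r) (Fin r) (ZMod 2)}
    (hx : Lift e x A) (hy : Lift e y B) : Lift e (x * y) (A * B) := fun a => by
  rw [← Matrix.mulVec_mulVec, ← hx, ← hy]
  group

theorem Lift.eq {r : ℕ} {e : (Fin r → ZMod 2) → Y} (he : Function.Injective e) {y : Y}
    {A B : Matrix (Fin r) (Fin r) (ZMod 2)} (hA : Lift e y A) (hB : Lift e y B) : A = B :=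
  Matrix.ext_of_mulVec_single fun i => he ((hA _).symm.trans (hB _))

section four

variable {e : V4 → Y} (hadd : ∀ a b, e (a + b) = e a * e b)

include hadd

theorem e_zero : e 0 = 1 := by
  have h := hadd 0 0
  rw [add_zero] at h
  exact mul_eq_left.1 h.symm

theorem e_sq (a : V4) : e a * e a = 1 := by rw [← hadd, add_self, e_zero hadd]

theorem e_inv (a : V4) : (e a)⁻¹ = e a := inv_eq_of_mul_eq_one_right (e_sq hadd a)

theorem lift_one : Lift e (1 : Y) (1 : M4) := fun a => by simp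

theorem lift_e (c : V4) : Lift e (e c) (1 : M4) := fun a => by
  rw [Matrix.one_mulVec, e_inv hadd, ← hadd, ← hadd, add_comm c a, add_assoc, add_self, add_zero]

theorem swap {y : Y} {A : M4} (hy : Lift e y A) (a : V4) : y * e a = e (A *ᵥ a) * y := by
  rw [← hy a, inv_mul_cancel_right]

theorem mem_range_of_one (hcen : ∀ y, Lift e y (1 : M4) → ∃ a, y = e a) {x y : Y} {A B : M4}
    (hBA : A * B = 1) (hx : Lift e x A) (hy : Lift e y A) : ∃ a, x = e a * y := by
  have h : Lift e (x * y⁻¹) (1 : M4) := by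
    intro a
    have e1 : y⁻¹ * e a * y = e (B *ᵥ a) := by
      have h1 := hy (B *ᵥ a)
      rw [Matrix.mulVec_mulVec, hBA, Matrix.one_mulVec] at h1
      rw [← h1]
      group
    rw [_root_.mul_inv_rev, inv_inv, show x * y⁻¹ * e a * (y * x⁻¹) = x * (y⁻¹ * e a * y) * x⁻¹ by group,
      e1, hx, Matrix.mulVec_mulVec, hBA]
  obtain ⟨a, ha⟩ := hcen _ h
  exact ⟨a, by rw [← ha, inv_mul_cancel_right]⟩

variable (he : Function.Injective e) (hcen : ∀ y, Lift e y (1 : M4) → ∃ a, y = e a)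
  (hlift : ∀ k, ∃ y, Lift e y (Mat k))

include he hcen hlift

theorem exists_z (k : Fin 6) : ∃ z, Lift e z (Z k) ∧ z ^ 3 = 1 := by
  obtain ⟨k', hk⟩ := mat_Z k
  obtain ⟨y, hy⟩ := hlift k'
  rw [hk] at hy
  have h3 : Lift e (y * (y * y)) 1 := by
    have := hy.mul (hy.mul hy)
    rwa [Z_cube] at this
  obtain ⟨c, hc⟩ := hcen _ h3
  refine ⟨y * (y * (y * y)), ?_, ?_⟩
  · have := hy.mul h3
    rwa [mul_one] at this
  · rw [show (y * (y * (y * y))) ^ 3 = (y * (y * y)) ^ 4 by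
      simp only [pow_succ, pow_zero, one_mul, mul_assoc]]
    rw [hc, pow_succ, pow_succ, pow_two, e_sq hadd, one_mul, e_sq hadd]

theorem exists_adjusted {i : Fin 3} {k : Fin 6} {z : Y} (hz : Lift e z (Z k)) (hz3 : z ^ 3 = 1)
    {B : M4} (hB : B ∈ [Z k, Z k * Z k]) {z' : Y} (hz' : Lift e z' B) (hz'3 : z' ^ 3 = 1)
    (hBB : B * (B * B) = 1) (hrel : T i * Z k = B * T i) :
    ∃ y, Lift e y (T i) ∧ y * z = z' * y := by
  obtain ⟨k', hk⟩ := mat_T i
  obtain ⟨y, hy⟩ := hlift k'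
  rw [hk] at hy
  have hyi : Lift e y⁻¹ (T i) := by
    intro a
    have h1 := hy (T i *ᵥ a)
    rw [Matrix.mulVec_mulVec, T_sq, Matrix.one_mulVec] at h1
    rw [← h1]
    group
  have hw : Lift e (y * z * y⁻¹) B := by
    have := (hy.mul hz).mul hyi
    rwa [hrel, Matrix.mul_assoc, T_sq, Matrix.mul_one] at this
  obtain ⟨u, hu⟩ := mem_range_of_one hadd hcen (B := B * B) hBB hw hz'
  have hu0 : u + B *ᵥ u + (B * B) *ᵥ u = 0 := by
    refine he ?_
    rw [hadd, hadd, e_zero hadd]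
    have h1 : (e u * z') ^ 3 = 1 := by rw [← hu, conj_pow, hz3, mul_one, mul_inv_cancel]
    have h2 := swap hadd hz'
    have h4 := swap hadd (hz'.mul hz')
    calc e u * e (B *ᵥ u) * e ((B * B) *ᵥ u)
        = e u * e (B *ᵥ u) * (e ((B * B) *ᵥ u) * (z' * z' * z')) := by
          rw [show z' * z' * z' = z' ^ 3 by simp only [pow_succ, pow_zero, one_mul], hz'3, mul_one]
      _ = e u * (e (B *ᵥ u) * z') * (z'⁻¹ * (e ((B * B) *ᵥ u) * (z' * z')) * z') := by group
      _ = e u * (z' * e u) * (z'⁻¹ * (z' * z' * e u) * z') := by rw [h2, h4]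
      _ = e u * z' * e u * (z' * e u * z') := by group
      _ = (e u * z') ^ 3 := by simp only [pow_succ, pow_zero, one_mul, mul_assoc]
      _ = 1 := h1
  obtain ⟨v, hv⟩ := coboundary k B hB u hu0
  refine ⟨e v * y, ?_, ?_⟩
  · have := (lift_e hadd v).mul hy
    rwa [Matrix.one_mul] at this
  · rw [show e v * y * z = e v * (y * z * y⁻¹) * y by group, hu,
      show z' * (e v * y) = (z' * e v) * y by group, swap hadd hz', ← mul_assoc (e v), ← hadd]
    refine congrArg (fun w => e w * z' * y) ?_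
    rw [← hv, ← add_assoc, add_self, zero_add]

theorem square_mem {i : Fin 3} {y : Y} (hy : Lift e y (T i)) : ∃ s, W s ∧ y * y = e s := by
  obtain ⟨k, hk⟩ := exists_fst i
  obtain ⟨z, hz, hz3⟩ := exists_z hadd he hcen hlift k
  obtain ⟨y0, hy0, hy0z⟩ := exists_adjusted hadd he hcen hlift hz hz3 (List.mem_cons_self)
    hz hz3 (Z_cube k) (hk ▸ TZ_fst k : T i * Z k = Z k * T i)
  have h2 : Lift e (y0 * y0) 1 := by
    have := hy0.mul hy0
    rwa [T_sq] at this
  obtain ⟨s, hs⟩ := hcen _ h2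
  have hs1 : T i *ᵥ s = s := he (by rw [← hy0 s, ← hs]; group)
  have hs2 : Z k *ᵥ s = s := he (by
    have : z * (y0 * y0) = y0 * y0 * z := by
      rw [mul_assoc y0, hy0z, ← mul_assoc y0, hy0z, mul_assoc]
    rw [← hz s, ← hs, this, mul_inv_cancel_right])
  have hW := W_fix k s (by rw [hk]; exact hs1) hs2
  obtain ⟨v, hv⟩ := mem_range_of_one hadd hcen (T_sq i) hy hy0
  refine ⟨v + T i *ᵥ v + s, W_add _ _ (W_commutator i v) hW, ?_⟩
  rw [hv, hadd, hadd, ← hs, show e v * y0 * (e v * y0) = e v * (y0 * e v) * y0 by group,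
    swap hadd hy0]
  group

/-- The commutator of lifts adjusted to `z`. -/
theorem exists_fixed_commutator (k : Fin 6) : ∃ yi yj c, Lift e yi (T (pr k).1) ∧
    Lift e yj (T (pr k).2) ∧ yi * yj = e c * (yj * yi) ∧ Z k *ᵥ c = c := by
  obtain ⟨z, hz, hz3⟩ := exists_z hadd he hcen hlift k
  have hB2 : Z k * Z k * ((Z k * Z k) * (Z k * Z k)) = 1 := by
    calc Z k * Z k * ((Z k * Z k) * (Z k * Z k))
        = (Z k * (Z k * Z k)) * (Z k * (Z k * Z k)) := by simp only [Matrix.mul_assoc]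
      _ = 1 := by rw [Z_cube, one_mul]
  obtain ⟨yi, hyi, hiz⟩ := exists_adjusted hadd he hcen hlift hz hz3 (List.mem_cons_self)
    hz hz3 (Z_cube k) (TZ_fst k)
  obtain ⟨yj, hyj, hjz⟩ := exists_adjusted hadd he hcen hlift hz hz3
    (List.mem_cons_of_mem _ List.mem_cons_self) (hz.mul hz)
    (by rw [← pow_two, ← pow_mul, show 2 * 3 = 3 * 2 from rfl, pow_mul, hz3, one_pow]) hB2 (TZ_snd k)
  have hA : Lift e (yi * yj * (yj * yi)⁻¹) 1 := by
    intro a
    have h1 := hyi.mul hyj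
    have h2 := hyj.mul hyi
    rw [T_comm] at h1
    obtain ⟨c, hc⟩ := mem_range_of_one hadd hcen (B := T (pr k).1 * T (pr k).2) (by
      rw [Matrix.mul_assoc, ← Matrix.mul_assoc (T (pr k).1), T_sq, one_mul, T_sq]) h1 h2
    rw [hc, mul_inv_cancel_right]
    exact lift_e hadd c a
  obtain ⟨c, hc⟩ := hcen _ hA
  refine ⟨yi, yj, c, hyi, hyj, by rw [← hc, inv_mul_cancel_right], he ?_⟩
  have hi2 : yi * (z * z) = z * z * yi := by
    rw [← mul_assoc, hiz, mul_assoc, hiz, mul_assoc]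
  have e1 : yi * yj * z = z * z * (yi * yj) := by
    rw [mul_assoc, hjz, ← mul_assoc yi, hi2, mul_assoc]
  have e2 : yj * yi * z = z * z * (yj * yi) := by
    rw [mul_assoc, hiz, ← mul_assoc yj, hjz, mul_assoc]
  have e3 : (yj * yi)⁻¹ * (z * z) = z * (yj * yi)⁻¹ := by
    rw [inv_mul_eq_iff_eq_mul, ← mul_assoc, e2, mul_inv_cancel_right]
  have hcomm : e c * (z * z) = z * z * e c := by
    rw [← hc, mul_assoc, e3, ← mul_assoc, e1, mul_assoc]
  have hz4 : z * z * (z * z) = z := by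
    rw [show z * z * (z * z) = z * z ^ 3 by simp only [pow_succ, pow_zero, one_mul, mul_assoc], hz3, mul_one]
  have hcz : z * e c = e c * z := by
    rw [← hz4]
    rw [mul_assoc, ← hcomm, ← mul_assoc, ← hcomm, mul_assoc]
  rw [← hz c, hcz, mul_inv_cancel_right]

theorem commutator_shift {i j : Fin 3} {yi yj yi' yj' : Y} {c : V4} (hi : Lift e yi (T i))
    (hj : Lift e yj (T j)) (hi' : Lift e yi' (T i)) (hj' : Lift e yj' (T j))
    (h : yi * yj = e c * (yj * yi)) :
    ∃ d, W (c + d) ∧ yi' * yj' = e d * (yj' * yi') := by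
  obtain ⟨v, hv⟩ := mem_range_of_one hadd hcen (T_sq i) hi' hi
  obtain ⟨w, hw⟩ := mem_range_of_one hadd hcen (T_sq j) hj' hj
  refine ⟨c + ((v + T j *ᵥ v) + (w + T i *ᵥ w)), ?_, ?_⟩
  · rw [← add_assoc, add_self, zero_add]
    exact W_add _ _ (W_commutator j v) (W_commutator i w)
  rw [hv, hw, show e v * yi * (e w * yj) = e v * (yi * e w) * yj by group, swap hadd hi,
    show e w * yj * (e v * yi) = e w * (yj * e v) * yi by group, swap hadd hj]
  have e1 : v + T i *ᵥ w + c = c + ((v + T j *ᵥ v) + (w + T i *ᵥ w)) + (w + T j *ᵥ v) := by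
    have h2 : ∀ a b : V4, a + (b + b) = a := fun a b => by rw [add_self, add_zero]
    conv_lhs => rw [← h2 (v + T i *ᵥ w + c) (T j *ᵥ v), ← h2 (v + T i *ᵥ w + c + _) w]
    abel
  calc e v * (e (T i *ᵥ w) * yi) * yj = e v * e (T i *ᵥ w) * (yi * yj) := by group
    _ = e (v + T i *ᵥ w + c) * (yj * yi) := by rw [h, hadd, hadd]; group
    _ = _ := by rw [e1, hadd _ (w + T j *ᵥ v), hadd w]; group

theorem commutator_mem {i j : Fin 3} (hij : i ≠ j) {yi yj : Y} (hi : Lift e yi (T i))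
    (hj : Lift e yj (T j)) : ∃ c, W c ∧ yi * yj = e c * (yj * yi) := by
  obtain ⟨k, k', hk, hk'⟩ := exists_pair i j hij
  obtain ⟨a, b, c, ha, hb, hc, hcz⟩ := exists_fixed_commutator hadd he hcen hlift k
  obtain ⟨b', a', d, hb', ha', hd, hdz⟩ := exists_fixed_commutator hadd he hcen hlift k'
  rw [hk] at ha hb
  rw [hk'] at hb' ha'
  -- `d` is also the commutator in the other order
  have hd' : a' * b' = e d * (b' * a') := by
    rw [hd, ← mul_assoc (e d), e_sq hadd, one_mul]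
  obtain ⟨d1, hW1, hd1⟩ := commutator_shift hadd he hcen hlift ha' hb' ha hb hd'
  have hdc : d1 = c := he (mul_right_cancel (hd1.symm.trans hc))
  subst hdc
  have hWc : W d1 := W_meet k k' (by rw [hk, hk']) d1 d hcz hdz (by rw [add_comm]; exact hW1)
  obtain ⟨f, hWf, hf⟩ := commutator_shift hadd he hcen hlift ha hb hi hj hc
  refine ⟨f, ?_, hf⟩
  have := W_add _ _ hWc hWf
  rwa [← add_assoc, add_self, zero_add] at this

/-- The sectional `2`-rank is at least five. -/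
theorem not_rank_four [Finite Y] : ¬ Cfsg.SectionalPRankLE 2 4 Y := by
  classical
  intro hrank
  have hy : ∀ i : Fin 3, ∃ y, Lift e y (T i) := fun i => by
    obtain ⟨k, hk⟩ := mat_T i
    exact hk ▸ hlift k
  choose y hy using hy
  let G0 : Set Y := Set.range y ∪ Set.range e
  let K : Subgroup Y := Subgroup.closure G0
  let N0 : Subgroup Y :=
    { carrier := {x | ∃ a, W a ∧ x = e a}
      one_mem' := ⟨0, by decide, (e_zero hadd).symm⟩
      mul_mem' := by
        rintro _ _ ⟨a, ha, rfl⟩ ⟨b, hb, rfl⟩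
        exact ⟨a + b, W_add a b ha hb, (hadd a b).symm⟩
      inv_mem' := by
        rintro _ ⟨a, ha, rfl⟩
        exact ⟨a, ha, e_inv hadd a⟩ }
  have heK : ∀ a, e a ∈ K := fun a => Subgroup.subset_closure (Or.inr ⟨a, rfl⟩)
  have hyK : ∀ i, y i ∈ K := fun i => Subgroup.subset_closure (Or.inl ⟨i, rfl⟩)
  have hcent : ∀ n ∈ N0, ∀ x ∈ K, x * n = n * x := by
    rintro _ ⟨a, ha, rfl⟩ x hx
    induction hx using Subgroup.closure_induction with
    | mem x hx =>
      rcases hx with ⟨i, rfl⟩ | ⟨b, rfl⟩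
      · rw [swap hadd (hy i), W_T i a ha]
      · rw [← hadd, ← hadd, add_comm]
    | one => simp
    | mul x z _ _ hx hz => rw [mul_assoc, hz, ← mul_assoc, hx, mul_assoc]
    | inv x _ hx =>
      rw [inv_mul_eq_iff_eq_mul, ← mul_assoc, hx, mul_inv_cancel_right]
  let N := N0.subgroupOf K
  haveI : N.Normal := ⟨fun n hn g => by
    have h := hcent n.1 hn g.1 g.2
    have : g * n * g⁻¹ = n := Subtype.ext (by
      show (g : Y) * (n : Y) * (g : Y)⁻¹ = n
      rw [h, mul_inv_cancel_right])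
    rw [this]; exact hn⟩
  let π := QuotientGroup.mk' N
  have hπ : ∀ (a b : ↥K) (c : V4), W c → (a : Y) = e c * (b : Y) → π a = π b := by
    intro a b c hc h
    have h1 : a = ⟨e c, heK c⟩ * b := Subtype.ext h
    rw [h1, map_mul, show π ⟨e c, heK c⟩ = 1 from
      (QuotientGroup.eq_one_iff _).2 (Subgroup.mem_subgroupOf.2 ⟨c, hc, rfl⟩), one_mul]
  let G1 : Set ↥K := (Subtype.val : ↥K → Y) ⁻¹' G0
  have hgen : Subgroup.closure (π '' G1) = ⊤ := by
    rw [← MonoidHom.map_closure, Subgroup.closure_closure_coe_preimage,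
      Subgroup.map_top_of_surjective _ (QuotientGroup.mk'_surjective N)]
  -- pairwise relations between the generators
  have hpair : ∀ a ∈ G1, ∀ b ∈ G1, π a * π b = π b * π a := by
    intro a ha b hb
    rw [← map_mul, ← map_mul]
    suffices ∃ c, W c ∧ (a : Y) * b = e c * ((b : Y) * a) by
      obtain ⟨c, hc, h⟩ := this
      exact hπ _ _ c hc h
    rcases ha with ⟨i, hi⟩ | ⟨u, hu⟩ <;> rcases hb with ⟨j, hj⟩ | ⟨w, hw⟩
    · rw [← hi, ← hj]
      by_cases hij : i = j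
      · subst hij
        exact ⟨0, by decide, by rw [e_zero hadd, one_mul]⟩
      · exact commutator_mem hadd he hcen hlift hij (hy i) (hy j)
    · rw [← hi, ← hw]
      refine ⟨w + T i *ᵥ w, W_commutator i w, ?_⟩
      rw [swap hadd (hy i), ← mul_assoc, ← hadd, add_comm w, add_assoc, add_self, add_zero]
    · rw [← hj, ← hu]
      refine ⟨u + T j *ᵥ u, W_commutator j u, ?_⟩
      rw [swap hadd (hy j), ← mul_assoc, ← hadd, add_assoc, add_self, add_zero]
    · rw [← hu, ← hw]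
      exact ⟨0, by decide, by rw [e_zero hadd, one_mul, ← hadd, ← hadd, add_comm]⟩
  have hsq : ∀ a ∈ G1, π a * π a = 1 := by
    intro a ha
    rw [← map_mul, ← map_one π]
    rcases ha with ⟨i, hi⟩ | ⟨u, hu⟩
    · obtain ⟨s, hs, h⟩ := square_mem hadd he hcen hlift (hy i)
      exact hπ _ _ s hs (by rw [Subgroup.coe_mul, ← hi, h, Subgroup.coe_one, mul_one])
    · exact hπ _ _ 0 (by decide) (by
        rw [Subgroup.coe_mul, ← hu, e_sq hadd, e_zero hadd, Subgroup.coe_one, one_mul])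
  have hcomm : ∀ a b : ↥K ⧸ N, a * b = b * a := by
    have h : IsMulCommutative ↥(Subgroup.closure (π '' G1)) :=
      Subgroup.isMulCommutative_closure (by
        rintro _ ⟨a, ha, rfl⟩ _ ⟨b, hb, rfl⟩
        exact hpair a ha b hb)
    intro a b
    exact congrArg Subtype.val (h.is_comm.comm ⟨a, hgen ▸ Subgroup.mem_top a⟩
      ⟨b, hgen ▸ Subgroup.mem_top b⟩)
  have hexp : ∀ a : ↥K ⧸ N, a ^ 2 = 1 := by
    intro a
    have ha : a ∈ Subgroup.closure (π '' G1) := hgen ▸ Subgroup.mem_top a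
    induction ha using Subgroup.closure_induction with
    | mem x hx => obtain ⟨g, hg, rfl⟩ := hx; rw [pow_two, hsq g hg]
    | one => exact one_pow 2
    | mul x z _ _ hx hz => rw [Commute.mul_pow (hcomm x z), hx, hz, one_mul]
    | inv x _ hx => rw [inv_pow, hx, inv_one]
  have hcard := hrank K N ⊤ ⟨⟨fun a b => Subtype.ext (hcomm a b)⟩⟩ fun a _ => hexp a
  rw [Subgroup.card_top] at hcard
  -- thirty-two cosets
  let yy : (Fin 3 → Fin 2) → Y := fun b => y 0 ^ (b 0 : ℕ) * y 1 ^ (b 1 : ℕ) * y 2 ^ (b 2 : ℕ)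
  have hpow : ∀ i, ∀ n : ℕ, Lift e (y i ^ n) (T i ^ n) := by
    intro i n
    induction n with
    | zero => rw [pow_zero, pow_zero]; exact lift_one hadd
    | succ n ih => rw [pow_succ, pow_succ]; exact ih.mul (hy i)
  have hyy : ∀ b, Lift e (yy b) (T 0 ^ (b 0 : ℕ) * T 1 ^ (b 1 : ℕ) * T 2 ^ (b 2 : ℕ)) := fun b =>
    ((hpow 0 _).mul (hpow 1 _)).mul (hpow 2 _)
  have hyyK : ∀ b, yy b ∈ K := fun b =>
    mul_mem (mul_mem (pow_mem (hyK 0) _) (pow_mem (hyK 1) _)) (pow_mem (hyK 2) _)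
  let vec : (Fin 2 → ZMod 2) → V4 := fun a => ![a 0, a 1, 0, 0]
  let Ψ : (Fin 3 → Fin 2) × (Fin 2 → ZMod 2) → ↥K ⧸ N := fun p =>
    π ⟨e (vec p.2) * yy p.1, mul_mem (heK _) (hyyK _)⟩
  have hΨ : Function.Injective Ψ := by
    rintro ⟨b, a⟩ ⟨b', a'⟩ h
    have h1 := QuotientGroup.eq.1 h
    obtain ⟨w, hw, hwe⟩ := Subgroup.mem_subgroupOf.1 h1
    have h2 : e (vec a') * yy b' = (e (vec a) * yy b) * e w := by
      rw [← hwe]
      simp only [Subgroup.coe_mul, Subgroup.coe_inv]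
      rw [mul_inv_cancel_left]
    rw [hcent _ ⟨w, hw, rfl⟩ _ (mul_mem (heK _) (hyyK b)), ← mul_assoc (e w), ← hadd] at h2
    have hb : b = b' := by
      have h3 := ((lift_e hadd (w + vec a)).mul (hyy b))
      rw [← h2] at h3
      have h4 := h3.eq he ((lift_e hadd (vec a')).mul (hyy b'))
      rw [Matrix.one_mul, Matrix.one_mul] at h4
      exact prod_injective b b' h4
    subst hb
    have h5 : vec a' = w + vec a := he (mul_right_cancel h2)
    refine Prod.ext rfl (funext fun i => ?_)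
    fin_cases i
    · have := congrFun h5 0
      simp only [vec, Pi.add_apply, hw.1, zero_add] at this
      simpa using this.symm
    · have := congrFun h5 1
      simp only [vec, Pi.add_apply, hw.2, zero_add] at this
      simpa using this.symm
  have h32 := Nat.card_le_card_of_injective Ψ hΨ
  rw [Nat.card_prod, Nat.card_fun, Nat.card_fun, Nat.card_zmod, Nat.card_fin, Nat.card_fin] at h32
  omega

end four

/-- Sectional rank passes to homomorphic images. -/
theorem rank_of_surjective {X : Type*} [Group X] [Finite X] {Y : Type*} [Group Y] {p k : ℕ}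
    (h : Cfsg.SectionalPRankLE p k X) (π : X →* Y) (hπ : Function.Surjective π) :
    Cfsg.SectionalPRankLE p k Y := by
  intro H N hN A hAc hAe
  let φ : ↥(H.comap π) →* ↥H ⧸ N := (QuotientGroup.mk' N).comp (π.subgroupComap H)
  have hφ : Function.Surjective φ := (QuotientGroup.mk'_surjective N).comp fun y => by
    obtain ⟨x, hx⟩ := hπ y
    exact ⟨⟨x, by rw [Subgroup.mem_comap, hx]; exact y.2⟩, Subtype.ext hx⟩
  let e := QuotientGroup.quotientKerEquivOfSurjective φ hφ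
  haveI := hAc
  have := h (H.comap π) φ.ker (A.map e.symm.toMonoidHom) inferInstance (by
    rintro _ ⟨a, ha, rfl⟩
    rw [← map_pow, hAe a ha, map_one])
  rwa [← Nat.card_congr (A.equivMapOfInjective e.symm.toMonoidHom e.symm.injective).toEquiv] at this

end Cfsg.Agent.RankFive
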