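import Cfsg.Agent.Lib.GLFourTwo.SubgroupsNormal
import Cfsg.Agent.S0494
import Cfsg.Agent.S0495
import Cfsg.Agent.S0497

/-!
The subgroups of `A₈` without solvable normal subgroups.
-/

set_option autoImplicit false
set_option linter.unusedSectionVars false
set_option linter.style.haveILetI false

namespace Cfsg.Agent.A8Sub

open Equiv
open scoped Classical

universe u

/-- `GL₃(2)` is simple of order `168`. -/
theorem gl32 : IsSimpleGroup (GL (Fin 3) (ZMod 2)) ∧ Nat.card (GL (Fin 3) (ZMod 2)) = 168 := by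
  haveI : Fact (Nat.Prime 2) := ⟨Nat.prime_two⟩
  have h2 : Nat.card (ZMod 2) = 2 := by rw [Nat.card_eq_fintype_card, ZMod.card]
  have hgl : Nat.card (GL (Fin 3) (ZMod 2)) = 168 := by
    rw [ClassicalSL.card_gl_fin h2 3]; decide
  have hsl : Nat.card (Matrix.SpecialLinearGroup (Fin 3) (ZMod 2)) = 168 := by
    have h := ClassicalSL.card_sl_mul (ι := Fin 3) (F := ZMod 2)
    rw [h2, hgl] at h
    omega
  have hz : Subgroup.center (Matrix.SpecialLinearGroup (Fin 3) (ZMod 2)) = ⊥ :=
    Subgroup.card_eq_one.1 (by rw [ClassicalSL.card_center_sl, h2]; simp)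
  haveI := ClassicalSL.isSimpleGroup_psl (ι := Fin 3) (F := ZMod 2) (by simp)
  have hinj : Function.Injective
      (QuotientGroup.mk' (Subgroup.center (Matrix.SpecialLinearGroup (Fin 3) (ZMod 2)))) := by
    rw [← MonoidHom.ker_eq_bot_iff, QuotientGroup.ker_mk', hz]
  haveI : IsSimpleGroup (Matrix.SpecialLinearGroup (Fin 3) (ZMod 2)) :=
    (MulEquiv.ofBijective _ ⟨hinj, QuotientGroup.mk'_surjective _⟩ :
      Matrix.SpecialLinearGroup (Fin 3) (ZMod 2) ≃*
        Matrix.ProjectiveSpecialLinearGroup (Fin 3) (ZMod 2)).isSimpleGroup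
  obtain ⟨e⟩ := nonempty_equiv (Matrix.SpecialLinearGroup.toGL (n := Fin 3) (R := ZMod 2))
    Matrix.SpecialLinearGroup.toGL_injective (hsl.trans hgl.symm)
  exact ⟨e.symm.isSimpleGroup, hgl⟩

variable {H : Type u} [Group H] [Finite H] {ι : H →* Perm (Fin 8)}

/-- The points moved by a subgroup. -/
noncomputable def moved (ι : H →* Perm (Fin 8)) (T : Subgroup H) : Finset (Fin 8) :=
  Finset.univ.filter fun x => ∃ t ∈ T, ι t x ≠ x

theorem mem_moved {T : Subgroup H} {x : Fin 8} : x ∈ moved ι T ↔ ∃ t ∈ T, ι t x ≠ x := by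
  simp [moved]

theorem moved_map (T : Subgroup H) [T.Normal] (h : H) (x : Fin 8) :
    ι h x ∈ moved ι T ↔ x ∈ moved ι T := by
  have key : ∀ (h : H) (x : Fin 8), x ∈ moved ι T → ι h x ∈ moved ι T := by
    intro h x hx
    obtain ⟨t, ht, hne⟩ := mem_moved.1 hx
    refine mem_moved.2 ⟨h * t * h⁻¹, Subgroup.Normal.conj_mem ‹_› t ht h, fun e => hne ?_⟩
    have e1 : ι (h * t * h⁻¹) (ι h x) = ι h (ι t x) := by
      rw [← Perm.mul_apply, ← map_mul, inv_mul_cancel_right, map_mul, Perm.mul_apply]
    rw [e1] at e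
    exact (ι h).injective e
  refine ⟨fun hx => ?_, key h x⟩
  have := key h⁻¹ _ hx
  rwa [← Perm.mul_apply, ← map_mul, inv_mul_cancel, map_one, Perm.one_apply] at this

theorem exists_hom_moved (hι : Function.Injective ι) (T : Subgroup H) [T.Normal]
    (hC : Subgroup.centralizer (T : Set H) = ⊥) {k : ℕ} (hk : (moved ι T).card = k) :
    ∃ f : H →* Perm (Fin k), Function.Injective f := by
  let f : H →* Perm {x // x ∈ moved ι T} :=
    { toFun := fun h => (ι h).subtypePerm (moved_map T h)
      map_one' := by ext x; simp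
      map_mul' := fun a b => Equiv.ext fun x => Subtype.ext (by
        show ι (a * b) x = ι a (ι b x)
        rw [map_mul]; rfl) }
  have hf : Function.Injective f := by
    rw [← MonoidHom.ker_eq_bot_iff, Subgroup.eq_bot_iff_forall]
    intro h hh
    have hfix : ∀ x ∈ moved ι T, ι h x = x := fun x hx =>
      by
      have e := congrArg Subtype.val (DFunLike.congr_fun (MonoidHom.mem_ker.1 hh) ⟨x, hx⟩)
      exact e
    have hc : h ∈ Subgroup.centralizer (T : Set H) := by
      refine Subgroup.mem_centralizer_iff.2 fun t ht => hι (Equiv.ext fun x => ?_)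
      rw [map_mul, map_mul, Perm.mul_apply, Perm.mul_apply]
      by_cases hx : x ∈ moved ι T
      · rw [hfix x hx, hfix _ ((moved_map T t x).2 hx)]
      · have hnfix : ∀ y, y ∉ moved ι T → ι t y = y := fun y hy =>
          not_not.1 fun hne => hy (mem_moved.2 ⟨t, ht, hne⟩)
        rw [hnfix x hx, hnfix _ (mt (moved_map T h x).1 hx)]
    rw [hC] at hc
    exact Subgroup.mem_bot.1 hc
  exact ⟨((Fintype.equivFinOfCardEq (by rw [Fintype.card_coe, hk])).permCongrHom.toMonoidHom.comp f),
    (Equiv.permCongrHom _).injective.comp hf⟩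

theorem centralizer_five (σ : Perm (Fin 8)) (hσ : orderOf σ = 5) :
    Nat.card (Subgroup.centralizer ({σ} : Set (Perm (Fin 8)))) = 30 := by
  obtain ⟨m, hm⟩ := Perm.cycleType_prime_order (σ := σ) (by rw [hσ]; norm_num)
  rw [hσ] at hm
  have hsum : σ.cycleType.sum ≤ 8 := by
    rw [Perm.sum_cycleType]
    exact (Finset.card_le_univ _).trans_eq (Fintype.card_fin 8)
  rw [hm, Multiset.sum_replicate, smul_eq_mul] at hsum
  have hm0 : m = 0 := by omega
  subst hm0
  rw [Perm.nat_card_centralizer, hm]
  simp [Nat.factorial]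

/-- A simple group of order `360` in `A₈` has no subgroup of index eight. -/
theorem index_ne_eight {G : Type u} [Group G] [Finite G] {j : G →* Perm (Fin 8)}
    (hj : Function.Injective j) (hcard : Nat.card G = 360) (S : Subgroup G) : S.index ≠ 8 := by
  intro hS
  haveI : Fact (Nat.Prime 3) := ⟨Nat.prime_three⟩
  haveI : Fact (Nat.Prime 5) := ⟨by norm_num⟩
  have hSc : Nat.card S = 45 := by
    have h := S.card_mul_index; rw [hS, hcard] at h; omega
  have h3 : Nat.card (Sylow 3 ↥S) = 1 := by
    have := Small.sylow_number_mem (G := ↥S) (p := 3) (k := 2) (m := 5) (by rw [hSc]; norm_num) (by norm_num)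
    rw [show (5 : ℕ).divisors.filter (fun d => d % 3 = 1) = {1} by decide, Finset.mem_singleton] at this
    exact this
  have h5 : Nat.card (Sylow 5 ↥S) = 1 := by
    have := Small.sylow_number_mem (G := ↥S) (p := 5) (k := 1) (m := 9) (by rw [hSc]; norm_num) (by norm_num)
    rw [show (9 : ℕ).divisors.filter (fun d => d % 5 = 1) = {1} by decide, Finset.mem_singleton] at this
    exact this
  obtain ⟨R⟩ : Nonempty (Sylow 3 ↥S) := inferInstance
  obtain ⟨P⟩ : Nonempty (Sylow 5 ↥S) := inferInstance
  haveI : Subsingleton (Sylow 3 ↥S) := (Nat.card_eq_one_iff_unique.mp h3).1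
  haveI : Subsingleton (Sylow 5 ↥S) := (Nat.card_eq_one_iff_unique.mp h5).1
  have hR : Nat.card (R : Subgroup ↥S) = 9 :=
    Small.sylow_card (k := 2) (m := 5) (by rw [hSc]; norm_num) (by norm_num) R
  have hP : Nat.card (P : Subgroup ↥S) = 5 :=
    Small.sylow_card (k := 1) (m := 9) (by rw [hSc]; norm_num) (by norm_num) P
  obtain ⟨x, hx⟩ := exists_prime_orderOf_dvd_card' (G := (P : Subgroup ↥S)) 5 (by rw [hP])
  have hdis : Disjoint (P : Subgroup ↥S) (R : Subgroup ↥S) := by
    rw [disjoint_iff]
    exact (Subgroup.disjoint_of_coprime_natCard (by rw [hP, hR]; norm_num)).eq_bot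
  let js : ↥S →* Perm (Fin 8) := j.comp S.subtype
  have hjs : Function.Injective js := hj.comp S.subtype_injective
  have hc := centralizer_five (js x) (by
    rw [orderOf_injective js hjs, Subgroup.orderOf_coe, hx])
  have hle : (R : Subgroup ↥S).map js ≤ Subgroup.centralizer ({js x} : Set (Perm (Fin 8))) := by
    rintro _ ⟨y, hy, rfl⟩
    rw [Subgroup.mem_centralizer_singleton_iff, ← map_mul, ← map_mul]
    exact congrArg js (Subgroup.commute_of_normal_of_disjoint _ _ P.normal_of_subsingleton
      R.normal_of_subsingleton hdis _ _ x.2 hy).eq.symm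
  have h9 := Subgroup.card_dvd_of_le hle
  rw [hc, ← Nat.card_congr ((R : Subgroup ↥S).equivMapOfInjective js hjs).toEquiv, hR] at h9
  omega

/-- The moved points of a simple group of order `60` or `360`. -/
theorem moved_card (hι : Function.Injective ι) (T : Subgroup H) [IsSimpleGroup ↥T]
    (hn : ¬ IsMulCommutative ↥T) (h : Nat.card T = 60 ∨ Nat.card T = 360) :
    (Nat.card T = 60 ∧ ((moved ι T).card = 5 ∨ (moved ι T).card = 6)) ∨
      (Nat.card T = 360 ∧ (moved ι T).card = 6) := by
  letI : MulAction ↥T (Fin 8) := MulAction.compHom _ (ι.comp T.subtype)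
  have horb : ∀ x ∈ moved ι T, (Nat.card T = 60 ∧ ((MulAction.orbit ↥T x).ncard = 5 ∨
      (MulAction.orbit ↥T x).ncard = 6)) ∨ (Nat.card T = 360 ∧ (MulAction.orbit ↥T x).ncard = 6) := by
    intro x hx
    rw [← MulAction.index_stabilizer]
    set S := MulAction.stabilizer ↥T x with hS
    obtain ⟨t, ht, hne⟩ := mem_moved.1 hx
    have hne' : S ≠ ⊤ := fun e => by
      have h1 : (⟨t, ht⟩ : ↥T) ∈ S := by rw [e]; exact Subgroup.mem_top _
      exact hne (MulAction.mem_stabilizer_iff.1 h1)
    have hd := Small.card_two_mul_dvd_factorial hn hne'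
    have hdvd : S.index ∣ Nat.card T := S.index_dvd_card
    have hle : S.index ≤ 8 := by
      rw [hS, MulAction.index_stabilizer]
      exact (Set.ncard_le_card _).trans_eq (Nat.card_fin 8)
    have h5 := Small.five_le_index hn hne'
    rcases h with h | h <;> rw [h] at hd hdvd
    · refine Or.inl ⟨h, ?_⟩
      interval_cases S.index <;> omega
    · refine Or.inr ⟨h, ?_⟩
      have h8 : S.index ≠ 8 := index_ne_eight (j := ι.comp T.subtype) (hι.comp T.subtype_injective) h S
      interval_cases hi : S.index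
      · exfalso; revert hd; decide
      · rfl
      · omega
      · omega
  -- a single orbit
  obtain ⟨x, hx⟩ : (moved ι T).Nonempty := by
    rw [Finset.nonempty_iff_ne_empty]
    intro he
    refine hn ⟨⟨fun a b => Subtype.ext (hι (Equiv.ext fun y => ?_))⟩⟩
    have h0 : ∀ t ∈ T, ∀ y, ι t y = y := fun t ht y =>
      not_not.1 fun hne => by
        have := mem_moved.2 ⟨t, ht, hne⟩
        rw [he] at this
        exact Finset.notMem_empty _ this
    rw [Subgroup.coe_mul, Subgroup.coe_mul, h0 _ (mul_mem a.2 b.2), h0 _ (mul_mem b.2 a.2)]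
  have hsub : ∀ y ∈ moved ι T, MulAction.orbit ↥T y ⊆ (moved ι T : Set (Fin 8)) := by
    rintro y hy _ ⟨g, rfl⟩
    obtain ⟨t, ht, hne⟩ := mem_moved.1 hy
    refine mem_moved.2 ⟨(g : H) * t * (g : H)⁻¹, mul_mem (mul_mem g.2 ht) (inv_mem g.2), fun e => hne ?_⟩
    show ι t y = y
    apply (ι (g : H)).injective
    have e' : ι ((g : H) * t * (g : H)⁻¹) (ι (g : H) y) = ι (g : H) y := e
    rwa [← Perm.mul_apply, ← map_mul, inv_mul_cancel_right, map_mul, Perm.mul_apply] at e'
  have heq : (moved ι T : Set (Fin 8)) = MulAction.orbit ↥T x := by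
    refine Set.Subset.antisymm (fun y hy => ?_) (hsub x hx)
    by_contra hyn
    have hdj : Disjoint (MulAction.orbit ↥T x) (MulAction.orbit ↥T y) := by
      rw [Set.disjoint_left]
      intro z hz hz'
      apply hyn
      rw [← MulAction.orbit_eq_iff.2 hz, MulAction.orbit_eq_iff.2 hz']
      exact MulAction.mem_orbit_self y
    have h1 := Set.ncard_union_eq hdj (Set.toFinite _) (Set.toFinite _)
    have h2 : (MulAction.orbit ↥T x ∪ MulAction.orbit ↥T y).ncard ≤ 8 :=
      (Set.ncard_le_card _).trans_eq (Nat.card_fin 8)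
    rcases horb x hx with ⟨-, a | a⟩ | ⟨-, a⟩ <;> rcases horb y hy with ⟨-, b | b⟩ | ⟨-, b⟩ <;> omega
  rw [← Set.ncard_coe_finset, heq]
  exact horb x hx

/-- The classification. -/
theorem classify [Nontrivial H] (hι : Function.Injective ι) (hs : ∀ h, Perm.sign (ι h) = 1)
    (hnp : ∀ p : ℕ, p.Prime → ∀ K : Subgroup H, K.Normal → IsPGroup p ↥K → K = ⊥) :
    (∃ n : ℕ, 5 ≤ n ∧ n ≤ 8 ∧ Nonempty (H ≃* alternatingGroup (Fin n))) ∨
    Nonempty (H ≃* Perm (Fin 5)) ∨ Nonempty (H ≃* Perm (Fin 6)) ∨
    Nonempty (H ≃* GL (Fin 3) (ZMod 2)) := by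
  rcases card_cases_top hι hs with h8 | ⟨k, hk8, hk⟩
  · exact Or.inl ⟨8, by norm_num, le_rfl, h8⟩
  have hle : Nat.card H ≤ 2520 := by nlinarith
  obtain ⟨T, hT, hsimp, hnab, hC⟩ := exists_simple_normal hι hs hnp hle
  haveI := hT
  haveI := hsimp
  have hTH : Nat.card T ∣ Nat.card H := Subgroup.card_subgroup_dvd_card T
  have hTle := Nat.le_of_dvd Nat.card_pos hTH
  have self : Nat.card H = Nat.card T → Nonempty (H ≃* ↥T) := fun e => by
    have hT' : T = ⊤ := Subgroup.eq_top_of_card_eq T e.symm
    exact ⟨Subgroup.topEquiv.symm.trans (MulEquiv.subgroupCongr hT'.symm)⟩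
  have hdvd := card_dvd hι hs
  rcases simple_card (j := ι.comp T.subtype) hnab (hι.comp T.subtype_injective) (fun g => hs _)
    with h | h | h | h | h
  · -- `A₅`, `S₅`
    obtain ⟨e5⟩ := Cfsg.Agent.S0494.result (G := ↥T) h
    have hA5 : Nat.card H = 60 → (∃ n : ℕ, 5 ≤ n ∧ n ≤ 8 ∧ Nonempty (H ≃* alternatingGroup (Fin n))) :=
      fun e => ⟨5, le_rfl, by norm_num, ⟨(self (e.trans h.symm)).some.trans e5⟩⟩
    obtain ⟨c, hc⟩ := hTH
    rw [h] at hc
    rcases moved_card hι T hnab (Or.inl h) with ⟨-, hm | hm⟩ | ⟨hbad, -⟩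
    · obtain ⟨f, hf⟩ := exists_hom_moved hι T hC hm
      have hd := Subgroup.card_dvd_of_injective f hf
      rw [Nat.card_perm, Nat.card_fin, hc, show Nat.factorial 5 = 60 * 2 from rfl,
        Nat.mul_dvd_mul_iff_left (by norm_num)] at hd
      rcases (Nat.dvd_prime Nat.prime_two).1 hd with rfl | rfl
      · exact Or.inl (hA5 hc)
      · exact Or.inr (Or.inl (nonempty_equiv f hf (by rw [hc, Nat.card_perm, Nat.card_fin]; rfl)))
    · obtain ⟨f, hf⟩ := exists_hom_moved hι T hC hm
      have hd := Subgroup.card_dvd_of_injective f hf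
      rw [Nat.card_perm, Nat.card_fin, hc, show Nat.factorial 6 = 60 * 12 from rfl,
        Nat.mul_dvd_mul_iff_left (by norm_num)] at hd
      have hc2 : c ≤ 2 := by
        haveI : IsSimpleGroup (alternatingGroup (Fin 6)) := alternatingGroup.isSimpleGroup (by simp)
        have hA6 : Nat.card (alternatingGroup (Fin 6)) = 360 := by
          have := card_alternating 6 (by norm_num)
          rw [show Nat.factorial 6 = 720 from rfl] at this
          omega
        have hTA : T.map f ≤ alternatingGroup (Fin 6) := by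
          rintro _ ⟨t, ht, rfl⟩
          refine Perm.mem_alternatingGroup.2 ?_
          have h1 := Small.hom_comm_eq_one hnab (Perm.sign.comp (f.comp T.subtype)) ⟨t, ht⟩
          exact h1
        by_contra hlt
        set I := f.range.subgroupOf (alternatingGroup (Fin 6)) with hI
        have hIcard : Nat.card I * 2 ≥ 60 * c := by
          have e : Nat.card f.range = 60 * c := by
            rw [← hc]; exact Nat.card_congr (MonoidHom.ofInjective hf).symm.toEquiv
          have h2 : (alternatingGroup (Fin 6)).index = 2 := by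
            have := (alternatingGroup (Fin 6)).card_mul_index
            rw [hA6, Nat.card_perm, Nat.card_fin, show Nat.factorial 6 = 720 from rfl] at this
            omega
          have h3 := ((alternatingGroup (Fin 6)).subgroupOf f.range).card_mul_index
          have h4 : ((alternatingGroup (Fin 6)).subgroupOf f.range).index ≤ 2 :=
            (Subgroup.relIndex_le_of_le_right le_top (by rw [Subgroup.relIndex_top_right, h2]; norm_num)).trans_eq
              (by rw [Subgroup.relIndex_top_right, h2])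
          have h5 : Nat.card ((alternatingGroup (Fin 6)).subgroupOf f.range) = Nat.card I := by
            rw [← Subgroup.inf_subgroupOf_right, Nat.card_congr (Subgroup.subgroupOfEquivOfLe inf_le_right).toEquiv,
              hI, ← Subgroup.inf_subgroupOf_right f.range,
              Nat.card_congr (Subgroup.subgroupOfEquivOfLe inf_le_right).toEquiv, inf_comm]
          rw [e] at h3
          nlinarith
        have hI_top : I = ⊤ := by
          by_contra hne
          have hd2 := Small.five_le_index (fun hc' => hnab ⟨⟨fun a b => Subtype.ext (hf (by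
            show f ((a : H) * b) = f ((b : H) * a)
            rw [map_mul, map_mul]
            exact congrArg Subtype.val (hc'.is_comm.comm
              (⟨f a, hTA ⟨a, a.2, rfl⟩⟩ : alternatingGroup (Fin 6)) ⟨f b, hTA ⟨b, b.2, rfl⟩⟩)))⟩⟩) hne
          have := I.card_mul_index
          rw [hA6] at this
          nlinarith
        have hnT : ((T.map f).subgroupOf (alternatingGroup (Fin 6))).Normal := ⟨fun x hx g => by
          have hg : (g : Perm (Fin 6)) ∈ f.range := by
            have : g ∈ I := hI_top ▸ Subgroup.mem_top g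
            exact this
          obtain ⟨h0, hh0⟩ := hg
          obtain ⟨t, ht, hxt⟩ := hx
          refine ⟨h0 * t * h0⁻¹, hT.conj_mem t ht h0, ?_⟩
          rw [map_mul, map_mul, map_inv, hh0, hxt]
          rfl⟩
        have hcT : Nat.card ((T.map f).subgroupOf (alternatingGroup (Fin 6))) = 60 := by
          rw [Nat.card_congr (Subgroup.subgroupOfEquivOfLe hTA).toEquiv,
            ← Nat.card_congr (T.equivMapOfInjective f hf).toEquiv, h]
        rcases hnT.eq_bot_or_eq_top with e | e
        · rw [e, Subgroup.card_bot] at hcT; omega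
        · rw [e, Subgroup.card_top, hA6] at hcT; omega
      have hc0 : c ≠ 0 := fun e => by rw [e, mul_zero] at hc; exact Nat.card_pos.ne' hc
      obtain rfl | rfl : c = 1 ∨ c = 2 := by omega
      · exact Or.inl (hA5 hc)
      · obtain ⟨e⟩ := equiv_sym_five f.range
          ((Nat.card_congr (MonoidHom.ofInjective hf).symm.toEquiv).trans hc)
        exact Or.inr (Or.inl ⟨(MonoidHom.ofInjective hf).trans e⟩)
    · omega
  · -- `GL₃(2)`
    haveI : Fact (Nat.Prime 7) := ⟨by norm_num⟩
    have h7H : 7 ∣ Nat.card H := (by rw [h]; norm_num : 7 ∣ Nat.card T).trans hTH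
    obtain ⟨P⟩ : Nonempty (Sylow 7 H) := inferInstance
    obtain ⟨hP, hN21, -, -⟩ := seven_facts hι hs h7H P
    have hPT : (P : Subgroup H) ≤ T := by
      intro y hy
      have h1 : orderOf (QuotientGroup.mk y : H ⧸ T) ∣ 7 :=
        (orderOf_map_dvd (QuotientGroup.mk' T) y).trans (hP ▸ Subgroup.orderOf_dvd_natCard _ hy)
      have h2 : orderOf (QuotientGroup.mk y : H ⧸ T) ∣ T.index := orderOf_dvd_natCard _
      rw [← QuotientGroup.eq_one_iff, ← orderOf_eq_one_iff]
      rcases (Nat.dvd_prime (by norm_num : (7 : ℕ).Prime)).1 h1 with e | e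
      · exact e
      · exfalso
        rw [e] at h2
        have h49 : 49 ∣ 20160 := by
          refine Dvd.dvd.trans ?_ hdvd
          rw [← T.card_mul_index, h]
          exact (Nat.mul_dvd_mul (by norm_num : 7 ∣ 168) h2)
        revert h49
        decide
    have hfr := Sylow.normalizer_sup_eq_top' P hPT
    -- the normaliser lies in `T`
    have hsame : Subgroup.normalizer ((P : Subgroup H) : Set H) ≤ T := by
      let Q' : Sylow 7 ↥T := P.subtype hPT
      obtain ⟨hQ', hN', hmod', hmul'⟩ :=
        seven_facts (j := ι.comp T.subtype) (hι.comp T.subtype_injective) (fun g => hs _) (by rw [h]; norm_num) Q'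
      set d := Nat.card ↥(Subgroup.normalizer ((Q' : Subgroup ↥T) : Set ↥T)) with hd
      have hd21 : d = 21 := by
        have h7d : 7 ∣ d := hQ' ▸ Subgroup.card_dvd_of_le (Q' : Subgroup ↥T).le_normalizer
        obtain ⟨e, he⟩ := h7d
        have hle := Nat.le_of_dvd (by norm_num) hN'
        rw [h] at hmul'
        have hn8 : d * Nat.card (Sylow 7 ↥T) = 168 := hmul'
        rw [he] at hn8 hN' hle
        have : e ≤ 3 := by omega
        interval_cases e <;> omega
      intro y hy
      have hle : (Subgroup.normalizer ((Q' : Subgroup ↥T) : Set ↥T)).map T.subtype ≤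
          Subgroup.normalizer ((P : Subgroup H) : Set H) := by
        refine (Subgroup.le_normalizer_map _).trans ?_
        rw [Sylow.coe_subtype, Subgroup.subgroupOf_map_subtype, inf_of_le_left hPT]
      have e := Subgroup.eq_of_le_of_card_ge hle (by
        rw [← Nat.card_congr (Subgroup.equivMapOfInjective _ _ T.subtype_injective).toEquiv, ← hd, hd21]
        exact Nat.le_of_dvd (by norm_num) hN21)
      rw [← e] at hy
      exact Subgroup.map_subtype_le _ hy
    have hTtop : T = ⊤ := top_le_iff.1 (hfr ▸ sup_le hsame le_rfl)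
    obtain ⟨e⟩ := self (by rw [hTtop, Subgroup.card_top])
    obtain ⟨hGs, hGc⟩ := gl32
    haveI := hGs
    haveI : Fact (Nat.Prime 7) := ⟨by norm_num⟩
    obtain ⟨e1⟩ := Cfsg.Agent.S0495.result (G := ↥T) h (F := ZMod 7) (ZMod.card 7)
    obtain ⟨e2⟩ := Cfsg.Agent.S0495.result (G := GL (Fin 3) (ZMod 2)) hGc (F := ZMod 7) (ZMod.card 7)
    exact Or.inr (Or.inr (Or.inr ⟨e.trans (e1.trans e2.symm)⟩))
  · -- `A₆`, `S₆`
    obtain ⟨e6⟩ := Cfsg.Agent.S0497.result (G := ↥T) h
    obtain ⟨c, hc⟩ := hTH
    rw [h] at hc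
    rcases moved_card hι T hnab (Or.inr h) with ⟨hbad, -⟩ | ⟨-, hm⟩
    · omega
    · obtain ⟨f, hf⟩ := exists_hom_moved hι T hC hm
      have hd := Subgroup.card_dvd_of_injective f hf
      rw [Nat.card_perm, Nat.card_fin, hc, show Nat.factorial 6 = 360 * 2 from rfl,
        Nat.mul_dvd_mul_iff_left (by norm_num)] at hd
      rcases (Nat.dvd_prime Nat.prime_two).1 hd with rfl | rfl
      · exact Or.inl ⟨6, by norm_num, by norm_num, ⟨(self (by rw [hc, h, mul_one])).some.trans e6⟩⟩
      · exact Or.inr (Or.inr (Or.inl (nonempty_equiv f hf (by rw [hc, Nat.card_perm, Nat.card_fin]; rfl))))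
  · -- `A₇`
    have hHT : Nat.card H = 2520 := by omega
    have hinj := toA8_injective hι hs
    obtain ⟨e⟩ := equiv_alt_seven (toA8 ι hs).range
      ((Nat.card_congr (MonoidHom.ofInjective hinj).symm.toEquiv).trans hHT)
    exact Or.inl ⟨7, by norm_num, by norm_num, ⟨(MonoidHom.ofInjective hinj).trans e⟩⟩
  · omega

end Cfsg.Agent.A8Sub
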