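import Cfsg.Agent.Lib.GLFourTwo.SubgroupsSimple

/-!
The minimal normal subgroup of a subgroup of `A₈` without solvable normal subgroups.
-/

set_option autoImplicit false
set_option linter.unusedSectionVars false
set_option linter.style.haveILetI false

namespace Cfsg.Agent.A8Sub

open Equiv
open scoped Classical commutatorElement

universe u

variable {H : Type u} [Group H] [Finite H] {ι : H →* Perm (Fin 8)}

theorem card_mul_dvd {G : Type*} [Group G] [Finite G] (A B : Subgroup G) [B.Normal]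
    (h : A ⊓ B = ⊥) : Nat.card A * Nat.card B ∣ Nat.card G := by
  rw [Subgroup.card_eq_card_quotient_mul_card_subgroup B]
  refine Nat.mul_dvd_mul_right (Subgroup.card_dvd_of_injective ((QuotientGroup.mk' B).comp A.subtype) ?_) _
  rw [← MonoidHom.ker_eq_bot_iff, Subgroup.eq_bot_iff_forall]
  intro a ha
  rw [MonoidHom.mem_ker, MonoidHom.comp_apply, QuotientGroup.mk'_apply, QuotientGroup.eq_one_iff] at ha
  have : (a : G) ∈ A ⊓ B := ⟨a.2, ha⟩
  rw [h, Subgroup.mem_bot] at this
  exact Subtype.ext this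

/-- Normal `p`-subgroups of a normal subgroup are trivial when those of the group are. -/
theorem no_pgroup_of_normal (hnp : ∀ p : ℕ, p.Prime → ∀ K : Subgroup H, K.Normal → IsPGroup p ↥K → K = ⊥)
    (N : Subgroup H) [N.Normal] {p : ℕ} (hp : p.Prime) (S : Subgroup ↥N) (hS : S.Normal)
    (hSp : IsPGroup p ↥S) : S = ⊥ := by
  haveI : Fact p.Prime := ⟨hp⟩
  haveI : (Cfsg.pCore p ↥N).Characteristic := LEBasic.pCore_characteristic
  have h1 := hnp p hp ((Cfsg.pCore p ↥N).map N.subtype) inferInstance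
    (LEBasic.pCore_isPGroup.map N.subtype)
  rw [Subgroup.map_eq_bot_iff_of_injective _ N.subtype_injective] at h1
  exact le_bot_iff.1 (h1 ▸ LEBasic.le_pCore hS hSp)

theorem dvd_twentyfour : ∀ k : ℕ, k < 142 → k * k ∣ 20160 → k ∣ 24 := by decide

/-- A minimal normal subgroup is non-abelian simple. -/
theorem minimal_normal_simple (hι : Function.Injective ι) (hs : ∀ h, Perm.sign (ι h) = 1)
    (hnp : ∀ p : ℕ, p.Prime → ∀ K : Subgroup H, K.Normal → IsPGroup p ↥K → K = ⊥)
    (N : Subgroup H) [hN : N.Normal] (hN1 : N ≠ ⊥)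
    (hmin : ∀ K : Subgroup H, K.Normal → K ≤ N → K = ⊥ ∨ K = N) :
    IsSimpleGroup ↥N ∧ ¬ IsMulCommutative ↥N := by
  haveI : Nontrivial ↥N := (Subgroup.nontrivial_iff_ne_bot N).2 hN1
  obtain ⟨S, ⟨hS, hS1⟩, hSmin⟩ := (Set.toFinite {S : Subgroup ↥N | S.Normal ∧ S ≠ ⊥}).exists_minimal
    ⟨⊤, inferInstance, top_ne_bot⟩
  have hSmin' : ∀ K : Subgroup ↥N, K.Normal → K ≤ S → K = ⊥ ∨ K = S := fun K hK hKS =>
    or_iff_not_imp_left.2 fun hK1 => le_antisymm hKS (hSmin ⟨hK, hK1⟩ hKS)
  have hSab : ¬ ∀ a ∈ S, ∀ b ∈ S, a * b = b * a := by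
    intro hab
    obtain ⟨p, hp, hSp⟩ := exists_prime_group S hS1 hSmin' hab
    exact hS1 (no_pgroup_of_normal hnp N hp S hS hSp)
  suffices hST : S = ⊤ by
    subst hST
    refine ⟨⟨fun K hK => hSmin' K hK le_top⟩, fun hc => hSab fun a _ b _ => hc.is_comm.comm a b⟩
  by_contra hST
  haveI := hS
  -- a conjugate different from `S`
  obtain ⟨h, hh⟩ : ∃ h : H, S.map (MulAut.conjNormal h).toMonoidHom ≠ S := by
    by_contra hall
    push Not at hall
    have hn : (S.map N.subtype).Normal := ⟨fun x hx g => by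
      obtain ⟨s, hs', rfl⟩ := hx
      refine ⟨MulAut.conjNormal g s, ?_, MulAut.conjNormal_apply g s⟩
      exact hall g ▸ Subgroup.mem_map_of_mem _ hs'⟩
    rcases hmin _ hn (Subgroup.map_subtype_le S) with e | e
    · exact hS1 ((Subgroup.map_eq_bot_iff_of_injective _ N.subtype_injective).1 e)
    · exact hST (Subgroup.map_injective N.subtype_injective
        (by rw [e, ← MonoidHom.range_eq_map, Subgroup.range_subtype]))
  set S' := S.map (MulAut.conjNormal h).toMonoidHom with hS'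
  haveI hS'n : S'.Normal := hS.map _ (MulAut.conjNormal h).surjective
  have hcardS' : Nat.card S' = Nat.card S :=
    (Nat.card_congr (S.equivMapOfInjective _ (MulAut.conjNormal h).injective).toEquiv).symm
  have hdis : S ⊓ S' = ⊥ := by
    rcases hSmin' (S ⊓ S') inferInstance inf_le_left with e | e
    · exact e
    · exact absurd (Subgroup.eq_of_le_of_card_ge (inf_eq_left.1 e) hcardS'.le).symm hh
  have hsq : Nat.card S * Nat.card S ∣ 20160 := by
    nth_rw 2 [← hcardS']
    exact ((card_mul_dvd S S' hdis).trans (Subgroup.card_subgroup_dvd_card N)).trans (card_dvd hι hs)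
  have hlt : Nat.card S < 142 := by
    have := Nat.le_of_dvd (by norm_num) hsq
    nlinarith
  have h24 := dvd_twentyfour _ hlt hsq
  obtain ⟨a, b, hab, -, -⟩ : ∃ a b, Nat.card S = 2 ^ a * 3 ^ b ∧ True ∧ True := by
    have h := Nat.mem_divisors.2 ⟨h24, (by norm_num : (24 : ℕ) ≠ 0)⟩
    have e : (24 : ℕ).divisors = {1, 2, 3, 4, 6, 8, 12, 24} := by decide
    rw [e] at h
    simp only [Finset.mem_insert, Finset.mem_singleton] at h
    rcases h with h | h | h | h | h | h | h | h
    exacts [⟨0, 0, by omega, trivial, trivial⟩, ⟨1, 0, by omega, trivial, trivial⟩,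
      ⟨0, 1, by omega, trivial, trivial⟩, ⟨2, 0, by omega, trivial, trivial⟩,
      ⟨1, 1, by omega, trivial, trivial⟩, ⟨3, 0, by omega, trivial, trivial⟩,
      ⟨2, 1, by omega, trivial, trivial⟩, ⟨3, 1, by omega, trivial, trivial⟩]
  haveI : Group.IsSolvable ↥S := Char.isSolvable_of_card_pq 2 3 Nat.prime_two Nat.prime_three _ _ rfl ⟨a, b, hab⟩
  haveI : Nontrivial ↥S := (Subgroup.nontrivial_iff_ne_bot S).2 hS1
  haveI : ((commutator ↥S).map S.subtype).Normal := inferInstance
  rcases hSmin' ((commutator ↥S).map S.subtype) inferInstance (Subgroup.map_subtype_le _) with e | e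
  · refine hSab fun x hx y hy => ?_
    rw [Subgroup.map_eq_bot_iff_of_injective _ S.subtype_injective] at e
    have hm : ⁅(⟨x, hx⟩ : ↥S), ⟨y, hy⟩⁆ ∈ commutator ↥S :=
      Subgroup.commutator_mem_commutator (Subgroup.mem_top _) (Subgroup.mem_top _)
    rw [e, Subgroup.mem_bot, commutatorElement_eq_one_iff_mul_comm] at hm
    exact congrArg Subtype.val hm
  · refine absurd ?_ (Group.IsSolvable.commutator_lt_top_of_nontrivial ↥S).ne
    exact Subgroup.map_injective S.subtype_injective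
      (by rw [e, ← MonoidHom.range_eq_map, Subgroup.range_subtype])

theorem exists_minimal_normal (R : Subgroup H) [R.Normal] (hR : R ≠ ⊥) :
    ∃ N : Subgroup H, N.Normal ∧ N ≤ R ∧ N ≠ ⊥ ∧
      ∀ K : Subgroup H, K.Normal → K ≤ N → K = ⊥ ∨ K = N := by
  obtain ⟨N, ⟨hN, hNR, hN1⟩, hmin⟩ :=
    (Set.toFinite {N : Subgroup H | N.Normal ∧ N ≤ R ∧ N ≠ ⊥}).exists_minimal ⟨R, inferInstance, le_rfl, hR⟩
  exact ⟨N, hN, hNR, hN1, fun K hK hKN =>
    or_iff_not_imp_left.2 fun hK1 => le_antisymm hKN (hmin ⟨hK, hKN.trans hNR, hK1⟩ hKN)⟩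

/-- A non-abelian simple normal subgroup with trivial centraliser. -/
theorem exists_simple_normal [Nontrivial H] (hι : Function.Injective ι)
    (hs : ∀ h, Perm.sign (ι h) = 1)
    (hnp : ∀ p : ℕ, p.Prime → ∀ K : Subgroup H, K.Normal → IsPGroup p ↥K → K = ⊥)
    (hH : Nat.card H ≤ 2520) :
    ∃ T : Subgroup H, T.Normal ∧ IsSimpleGroup ↥T ∧ ¬ IsMulCommutative ↥T ∧
      Subgroup.centralizer (T : Set H) = ⊥ := by
  obtain ⟨T, hT, -, hT1, hTmin⟩ := exists_minimal_normal (⊤ : Subgroup H) top_ne_bot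
  obtain ⟨hsimp, hnab⟩ := minimal_normal_simple hι hs hnp T hT1 hTmin
  refine ⟨T, hT, hsimp, hnab, ?_⟩
  by_contra hC
  haveI := hT
  haveI hCn : (Subgroup.centralizer (T : Set H)).Normal := ⟨fun c hc g => by
    rw [Subgroup.mem_centralizer_iff] at hc ⊢
    intro t ht
    have h := hc _ (hT.conj_mem' t ht g)
    calc t * (g * c * g⁻¹) = g * ((g⁻¹ * t * g) * c) * g⁻¹ := by group
      _ = g * (c * (g⁻¹ * t * g)) * g⁻¹ := by rw [h]
      _ = g * c * g⁻¹ * t := by group⟩
  obtain ⟨M, hM, hMC, hM1, hMmin⟩ := exists_minimal_normal _ hC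
  obtain ⟨hMs, hMnab⟩ := minimal_normal_simple hι hs hnp M hM1 hMmin
  have hdis : M ⊓ T = ⊥ := by
    rcases hTmin (M ⊓ T) (Subgroup.normal_inf_normal M T) inf_le_right with e | e
    · exact e
    · exfalso
      exact hnab ⟨⟨fun a b => Subtype.ext
        (Subgroup.mem_centralizer_iff.1 (hMC (inf_eq_right.1 e b.2)) a a.2)⟩⟩
  have hd := Nat.le_of_dvd Nat.card_pos (card_mul_dvd M T hdis)
  have h60 : ∀ (K : Subgroup H), IsSimpleGroup ↥K → ¬ IsMulCommutative ↥K → 60 ≤ Nat.card K := by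
    intro K hK hKn
    haveI := hK
    rcases simple_card (j := ι.comp K.subtype) hKn (hι.comp K.subtype_injective) (fun g => hs _) with h | h | h | h | h <;>
      omega
  have := Nat.mul_le_mul (h60 M hMs hMnab) (h60 T hsimp hnab)
  omega

end Cfsg.Agent.A8Sub
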