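import Cfsg.Agent.Lib.GLFourTwo.SubgroupsBase
import Cfsg.Agent.Lib.LocalEven.Basic
import Cfsg.Agent.Lib.Char.Burnside
import Cfsg.Agent.S0496
import Cfsg.Agent.Lib.GLFourTwo.Heptads
import Cfsg.Agent.S1016
import Cfsg.Agent.S1017
import Mathlib.GroupTheory.GroupAction.ConjAct

/-!
Simple subgroups of the alternating group of degree eight, and simplicity of minimal normal
subgroups of its subgroups without solvable normal subgroups.
-/

set_option autoImplicit false
set_option linter.unusedSectionVars false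
set_option linter.style.haveILetI false

namespace Cfsg.Agent.A8Sub

open Equiv
open scoped Classical

universe u

variable {G : Type u} [Group G] [Finite G] {j : G →* Perm (Fin 8)}

/-- The corestriction to `A₈`. -/
def toA8 (j : G →* Perm (Fin 8)) (hs : ∀ g, Perm.sign (j g) = 1) : G →* alternatingGroup (Fin 8) :=
  j.codRestrict _ fun g => Perm.mem_alternatingGroup.2 (hs g)

theorem toA8_injective (hj : Function.Injective j) (hs : ∀ g, Perm.sign (j g) = 1) :
    Function.Injective (toA8 j hs) := fun _ _ h => hj (congrArg Subtype.val h)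

theorem card_dvd (hj : Function.Injective j) (hs : ∀ g, Perm.sign (j g) = 1) :
    Nat.card G ∣ 20160 :=
  card_alt8 ▸ Subgroup.card_dvd_of_injective _ (toA8_injective hj hs)

theorem card_cases_top (hj : Function.Injective j) (hs : ∀ g, Perm.sign (j g) = 1) :
    Nonempty (G ≃* alternatingGroup (Fin 8)) ∨ ∃ k, 8 ≤ k ∧ Nat.card G * k = 20160 := by
  haveI : IsSimpleGroup (alternatingGroup (Fin 8)) := alternatingGroup.isSimpleGroup (by simp)
  have hinj := toA8_injective hj hs
  by_cases h : (toA8 j hs).range = ⊤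
  · exact Or.inl ⟨MulEquiv.ofBijective (toA8 j hs) ⟨hinj, MonoidHom.range_eq_top.1 h⟩⟩
  · refine Or.inr ⟨(toA8 j hs).range.index, ?_, ?_⟩
    · have hd := Small.card_dvd_factorial h
      rw [card_alt8] at hd
      by_contra hlt
      have h2 := hd.trans (Nat.factorial_dvd_factorial (show (toA8 j hs).range.index ≤ 7 by omega))
      revert h2
      decide
    · rw [← card_alt8, ← (toA8 j hs).range.card_mul_index]
      congr 1
      exact Nat.card_congr (MonoidHom.ofInjective hinj).toEquiv

/-- Constraints from Sylow `7`-subgroups. -/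
theorem seven_facts (hj : Function.Injective j) (hs : ∀ g, Perm.sign (j g) = 1)
    (h7 : 7 ∣ Nat.card G) :
    ∀ P : Sylow 7 G, Nat.card (P : Subgroup G) = 7 ∧
      Nat.card ↥(Subgroup.normalizer ((P : Subgroup G) : Set G)) ∣ 21 ∧
      Nat.card (Sylow 7 G) % 7 = 1 ∧
      Nat.card ↥(Subgroup.normalizer ((P : Subgroup G) : Set G)) * Nat.card (Sylow 7 G) =
        Nat.card G := by
  haveI : Fact (Nat.Prime 7) := ⟨by norm_num⟩
  intro P
  have hdvd := card_dvd hj hs
  have hP : Nat.card (P : Subgroup G) = 7 := by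
    have h1 : 7 ∣ Nat.card (P : Subgroup G) := P.dvd_card_of_dvd_card h7
    obtain ⟨k, hk⟩ := P.isPGroup'.exists_card_eq
    rw [hk] at h1 ⊢
    rcases k with _ | _ | k
    · simp at h1
    · simp
    · exfalso
      have h2 : 7 ^ 2 ∣ 20160 :=
        ((pow_dvd_pow 7 (by omega : 2 ≤ k + 1 + 1)).trans
          (hk ▸ Subgroup.card_subgroup_dvd_card _)).trans hdvd
      revert h2
      decide
  have hQ : Nat.card ((P : Subgroup G).map j) = 7 :=
    (Nat.card_congr ((P : Subgroup G).equivMapOfInjective j hj).symm.toEquiv).trans hP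
  refine ⟨hP, ?_, ?_, Small.card_normalizer_mul P⟩
  · let ψ : ↥(Subgroup.normalizer ((P : Subgroup G) : Set G)) →*
        ↥(Subgroup.normalizer (((P : Subgroup G).map j : Subgroup (Perm (Fin 8))) : Set (Perm (Fin 8))) ⊓
          alternatingGroup (Fin 8)) :=
      { toFun := fun x => ⟨j x, Subgroup.le_normalizer_map j ⟨x, x.2, rfl⟩,
          Perm.mem_alternatingGroup.2 (hs x)⟩
        map_one' := Subtype.ext (map_one j)
        map_mul' := fun a b => Subtype.ext (map_mul j _ _) }
    exact (Subgroup.card_dvd_of_injective ψ fun a b h =>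
      Subtype.ext (hj (congrArg Subtype.val h))).trans (card_normalizer_seven _ hQ)
  · rw [card_sylow_modEq_one 7 G]

theorem pair_count : ∀ v0 : Fin 4 → ZMod 2, v0 ≠ 0 →
    (Finset.image (fun w => ({w, w + v0} : Finset (Fin 4 → ZMod 2)))
      (Finset.univ.filter fun w => w ≠ 0 ∧ w ≠ v0)).card ≤ 7 := by
  decide +kernel

theorem two_self (v : Fin 4 → ZMod 2) : v + v = 0 :=
  funext fun i => CharTwo.add_self_eq_zero (v i)

/-- A group of order `1344` in `SL₄(2)` is not simple. -/
theorem card_ne_1344 [IsSimpleGroup G] (hG : ¬ IsMulCommutative G) (hj : Function.Injective j)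
    (hs : ∀ g, Perm.sign (j g) = 1) : Nat.card G ≠ 1344 := by
  intro hcard
  haveI : Fact (Nat.Prime 2) := ⟨Nat.prime_two⟩
  let ρ : G →* Matrix.SpecialLinearGroup (Fin 4) (ZMod 2) :=
    GLFourTwo.slEquivAlt.symm.toMonoidHom.comp (toA8 j hs)
  have hρ : Function.Injective ρ :=
    GLFourTwo.slEquivAlt.symm.injective.comp (toA8_injective hj hs)
  letI : DistribMulAction G (Fin 4 → ZMod 2) := DistribMulAction.compHom _ ρ
  have small : ∀ S : Subgroup G, S.index ≤ 7 → S = ⊤ := by
    intro S hS
    by_contra hne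
    have h2 := (Small.card_two_mul_dvd_factorial hG hne).trans (Nat.factorial_dvd_factorial hS)
    rw [hcard] at h2
    revert h2
    decide
  obtain ⟨P⟩ : Nonempty (Sylow 2 G) := inferInstance
  have hidxP : (P : Subgroup G).index = 21 :=
    Small.sylow_index (k := 6) (by rw [hcard]; norm_num) (by decide) P
  obtain ⟨v0, hv0, hne⟩ := P.isPGroup'.exists_fixed_point_of_prime_dvd_card_of_fixed_point
    (Fin 4 → ZMod 2) (by simp [Nat.card_eq_fintype_card]) (a := (0 : Fin 4 → ZMod 2))
    (fun g => smul_zero (g : G))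
  have hPle : (P : Subgroup G) ≤ MulAction.stabilizer G v0 := fun g hg => hv0 ⟨g, hg⟩
  have hfix : ∀ g : G, g • v0 = v0 := by
    have hd : (MulAction.stabilizer G v0).index ∣ 21 := hidxP ▸ Subgroup.index_dvd_of_le hPle
    have hle : (MulAction.stabilizer G v0).index ≤ 16 := by
      rw [MulAction.index_stabilizer]
      calc _ ≤ Nat.card (Fin 4 → ZMod 2) := Set.ncard_le_card _
        _ = 16 := by simp [Nat.card_eq_fintype_card]
    have h7 : (MulAction.stabilizer G v0).index ≤ 7 := by
      obtain ⟨c, hc⟩ := hd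
      interval_cases (MulAction.stabilizer G v0).index <;> omega
    intro g
    have := small _ h7
    exact MulAction.mem_stabilizer_iff.1 (this ▸ Subgroup.mem_top g)
  have hadd : ∀ (g : G) (v : Fin 4 → ZMod 2), g • (v + v0) = g • v + v0 := fun g v => by
    rw [smul_add, hfix]
  have hpair : ∀ (g : G) (v : Fin 4 → ZMod 2), g • v = v ∨ g • v = v + v0 := by
    intro g v
    by_cases hv : v = 0
    · exact Or.inl (by rw [hv, smul_zero])
    by_cases hv' : v = v0
    · exact Or.inl (by rw [hv', hfix])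
    open scoped Pointwise in
    have h7 : (MulAction.stabilizer G ({v, v + v0} : Finset (Fin 4 → ZMod 2))).index ≤ 7 := by
      rw [MulAction.index_stabilizer]
      refine le_trans ?_ (pair_count v0 (Ne.symm hne))
      rw [← Set.ncard_coe_finset]
      refine Set.ncard_le_ncard ?_ (Finset.finite_toSet _)
      rintro _ ⟨h, rfl⟩
      refine Finset.mem_coe.2 (Finset.mem_image.2 ⟨h • v, Finset.mem_filter.2 ⟨Finset.mem_univ _,
        fun e => hv ((smul_eq_zero_iff_eq h).1 e), fun e => hv' ?_⟩, ?_⟩)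
      · exact smul_left_cancel h (e.trans (hfix h).symm)
      · show _ = h • ({v, v + v0} : Finset (Fin 4 → ZMod 2))
        rw [Finset.smul_finset_insert, Finset.smul_finset_singleton, hadd]
    have hg := small _ h7 ▸ Subgroup.mem_top g
    open scoped Pointwise in
    have hmem : g • v ∈ ({v, v + v0} : Finset (Fin 4 → ZMod 2)) := by
      rw [← MulAction.mem_stabilizer_iff.1 hg]
      exact Finset.smul_mem_smul_finset (Finset.mem_insert_self _ _)
    simpa using hmem
  refine hG ⟨⟨fun a b => hρ (ClassicalSL.ext_of_smul_single fun k => ?_)⟩⟩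
  show (a * b) • (Pi.single k 1 : Fin 4 → ZMod 2) = (b * a) • (Pi.single k 1 : Fin 4 → ZMod 2)
  rw [mul_smul, mul_smul]
  rcases hpair a (Pi.single k 1) with ha | ha <;> rcases hpair b (Pi.single k 1) with hb | hb <;>
    simp [ha, hb, hadd, add_assoc, two_self]

/-- Orders of simple subgroups of `A₈`. -/
theorem simple_card [IsSimpleGroup G] (hG : ¬ IsMulCommutative G) (hj : Function.Injective j)
    (hs : ∀ g, Perm.sign (j g) = 1) :
    Nat.card G = 60 ∨ Nat.card G = 168 ∨ Nat.card G = 360 ∨ Nat.card G = 2520 ∨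
      Nat.card G = 20160 := by
  rcases card_cases_top hj hs with he | ⟨k, hk8, hk⟩
  · obtain ⟨e⟩ := he
    exact Or.inr (Or.inr (Or.inr (Or.inr ((Nat.card_congr e.toEquiv).trans card_alt8))))
  have no7 : ∀ n : ℕ, Nat.card G = n → 7 ∣ n → n % 7 = 0 →
      (∀ d ∈ ([7, 21] : List ℕ), d ∣ n → n / d % 7 ≠ 1) → False := by
    intro n hn h7 _ hbad
    haveI : Fact (Nat.Prime 7) := ⟨by norm_num⟩
    obtain ⟨P⟩ : Nonempty (Sylow 7 G) := inferInstance
    obtain ⟨hP, hd21, hmod, hmul⟩ := seven_facts hj hs (hn ▸ h7) P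
    set d := Nat.card ↥(Subgroup.normalizer ((P : Subgroup G) : Set G)) with hd
    have h7d : 7 ∣ d := hP ▸ Subgroup.card_dvd_of_le (P : Subgroup G).le_normalizer
    have hd' : d ∈ ([7, 21] : List ℕ) := by
      have hle := Nat.le_of_dvd (by norm_num) hd21
      obtain ⟨e, he⟩ := h7d
      have h1 : e ≤ 3 := by omega
      have hpos : 0 < d := Nat.card_pos
      have h2 : e ≠ 2 := by
        intro h; rw [he, h] at hd21; omega
      simp only [List.mem_cons, List.not_mem_nil, or_false]
      omega
    have hdpos : 0 < d := Nat.card_pos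
    refine hbad d hd' ⟨_, (hmul.trans hn).symm⟩ ?_
    rw [← hn, ← hmul, Nat.mul_div_cancel_left _ hdpos]
    exact hmod
  by_cases hsmall : Nat.card G ≤ 1092
  · rcases Cfsg.Agent.S0496.result hG hsmall with h | h | h | h | h | h
    · simp [h]
    · simp [h]
    · simp [h]
    · exact (no7 504 h (by norm_num) (by norm_num) (by decide)).elim
    · rw [h] at hk; omega
    · rw [h] at hk; omega
  · have hk18 : k ≤ 18 := by nlinarith
    interval_cases k
    · exact Or.inr (Or.inr (Or.inr (Or.inl (by omega))))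
    · exact (no7 2240 (by omega) (by norm_num) (by norm_num) (by decide)).elim
    · exact absurd (by omega) (Cfsg.Agent.S1017.result (G := G))
    · omega
    · exact (no7 1680 (by omega) (by norm_num) (by norm_num) (by decide)).elim
    · omega
    · exact absurd (by omega) (Cfsg.Agent.S1016.result (G := G))
    · exact absurd (by omega) (card_ne_1344 hG hj hs)
    · exact (no7 1260 (by omega) (by norm_num) (by norm_num) (by decide)).elim
    · omega
    · exact (no7 1120 (by omega) (by norm_num) (by norm_num) (by decide)).elim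

/-- An abelian nontrivial minimal normal subgroup yields a normal `p`-subgroup. -/
theorem exists_prime_group (S : Subgroup G) [S.Normal] (hS : S ≠ ⊥)
    (hmin : ∀ K : Subgroup G, K.Normal → K ≤ S → K = ⊥ ∨ K = S)
    (hab : ∀ a ∈ S, ∀ b ∈ S, a * b = b * a) : ∃ p : ℕ, p.Prime ∧ IsPGroup p ↥S := by
  obtain ⟨p, hp, hpd⟩ := Nat.exists_prime_and_dvd
    (fun h => hS (Subgroup.card_eq_one.1 h))
  haveI : Fact p.Prime := ⟨hp⟩
  let K : Subgroup G :=
    { carrier := {x | x ∈ S ∧ x ^ p = 1}
      one_mem' := ⟨one_mem S, one_pow p⟩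
      mul_mem' := fun {a b} ha hb => ⟨mul_mem ha.1 hb.1, by
        rw [(Commute.mul_pow (hab a ha.1 b hb.1) p), ha.2, hb.2, one_mul]⟩
      inv_mem' := fun {a} ha => ⟨inv_mem ha.1, by rw [inv_pow, ha.2, inv_one]⟩ }
  have hKn : K.Normal := ⟨fun x hx g => ⟨Subgroup.Normal.conj_mem ‹_› _ hx.1 g, by
    rw [conj_pow, hx.2, mul_one, mul_inv_cancel]⟩⟩
  rcases hmin K hKn (fun x hx => hx.1) with h | h
  · obtain ⟨g, hg⟩ := exists_prime_orderOf_dvd_card' (G := S) p hpd
    have : (g : G) ∈ K := ⟨g.2, by
      rw [← SubgroupClass.coe_pow, ← hg, pow_orderOf_eq_one]; rfl⟩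
    rw [h, Subgroup.mem_bot] at this
    exfalso
    have hg1 : g = 1 := Subtype.ext this
    rw [hg1, orderOf_one] at hg
    exact hp.ne_one hg.symm
  · refine ⟨p, hp, fun x => ⟨1, Subtype.ext ?_⟩⟩
    have hx : (x : G) ∈ K := h.symm ▸ x.2
    simpa using hx.2

end Cfsg.Agent.A8Sub
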